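import Groth.Agent.CentMaxTorLib.Global
import Groth.Agent.MaxTorFieldLib.General
import Groth.Agent.TorsTupleLib.Sigma
import Groth.Agent.TorsTupleLib.Pieces
import Groth.Agent.GrpHomLib.Artin
import Groth.Agent.S5281
import Groth.Agent.S5265
import Groth.Agent.S3006

/-!
Maximal tori over artinian local rings.
-/

set_option autoImplicit false
set_option linter.style.haveILetI false
set_option backward.isDefEq.respectTransparency false
set_option maxHeartbeats 1000000
set_option synthInstance.maxHeartbeats 200000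

noncomputable section

universe u

open CategoryTheory CategoryTheory.Limits MonoidalCategory CartesianMonoidalCategory AlgebraicGeometry
open scoped MonObj

attribute [-instance] CategoryTheory.Hom.commGroup

namespace Groth.Agent.CentMaxTor

variable {A : Type u} [CommRing A] [IsArtinianRing A] [IsLocalRing A]

/-- Smooth groups of finite type over an artinian local ring have maximal tori. -/
theorem exists_maximalTorus_artinian (G : Over (Spec (CommRingCat.of A))) [GrpObj G] [Smooth G.hom]
    [QuasiCompact G.hom] :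
    ∃ (T : Over (Spec (CommRingCat.of A))) (_ : GrpObj T) (i : T ⟶ G), Red.IsMaximalTorus i := by
  let J := IsLocalRing.maximalIdeal A
  letI : Field (A ⧸ J) := Ideal.Quotient.field J
  let c : Spec (CommRingCat.of (A ⧸ J)) ⟶ Spec (CommRingCat.of A) := Spec.map (CommRingCat.ofHom (Ideal.Quotient.mk J))
  haveI : IsClosedImmersion c := IsClosedImmersion.spec_of_surjective _ Ideal.Quotient.mk_surjective
  haveI : Subsingleton ↥(Spec (CommRingCat.of A)) := inferInstanceAs (Subsingleton (PrimeSpectrum A))
  let pt : ↥(Spec (CommRingCat.of (A ⧸ J))) := IsLocalRing.closedPoint (A ⧸ J)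
  haveI : Surjective c := ⟨fun x => ⟨pt, Subsingleton.elim _ _⟩⟩
  haveI : Smooth (Red.bc c G).hom := MorphismProperty.pullback_snd (P := @Smooth) _ _ inferInstance
  haveI : QuasiCompact (Red.bc c G).hom := MorphismProperty.pullback_snd (P := @QuasiCompact) _ _ inferInstance
  obtain ⟨T₀, _, i₀, hi₀⟩ := MaxTorField.exists_maximalTorus (Red.bc c G)
  haveI := hi₀.1; haveI := hi₀.2.1
  have hT₀ := hi₀.2.2.1
  haveI : Smooth T₀.hom := MaxTorConj.smooth_of_isTorus hT₀
  haveI : IsAffineHom T₀.hom := MultEq.isAffineHom_of_isMultTypeFT (RedRank.isMultTypeFT_of_isTorus hT₀)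
  haveI : IsSeparated (Red.bc c G).hom := Groth.Agent.GrpField.isSeparated_grp (G := Red.bc c G)
  haveI : Mono i₀.left := inferInstanceAs (Mono ((Over.forget _).map i₀))
  haveI : QuasiCompact i₀.left := WittGrpLib.quasiCompact_left i₀
  haveI : IsClosedImmersion i₀.left := GrpHom.isClosedImmersion_of_mono i₀
  obtain ⟨S', f, h1, h2, h3, h4⟩ := RedRank.isMultTypeFT_of_isTorus hT₀
  obtain ⟨H, _, j, hj, hji, hHfl, φ, hφ⟩ := Groth.Agent.S5281.result J (by show IsNilpotent (IsLocalRing.maximalIdeal A); rw [← IsLocalRing.jacobson_eq_maximalIdeal (⊥ : Ideal A) bot_ne_top]; exact IsArtinianRing.isNilpotent_jacobson_bot) G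
    inferInstance T₀ ⟨S', f, h1, h2, h3, fun s' => by
      obtain ⟨U, hU, M, hM, -, he⟩ := h4 s'
      exact ⟨U, hU, M, hM, he⟩⟩ i₀
  haveI := hj; haveI := hji; haveI := hHfl
  haveI : Mono j := Over.mono_of_mono_left j
  haveI : IsMonHom (M := Red.bc c H) (N := Red.bc c G) ((Over.pullback c).map j) := DiagRep.isMonHom_bc_map c j
  haveI : IsMonHom (φ.hom ≫ i₀) := by rw [hφ]; exact ‹IsMonHom ((Over.pullback c).map j)›
  haveI : IsMonHom φ.hom := DiagRep.isMonHom_of_comp_mono φ.hom i₀
  haveI : LocallyOfFiniteType H.hom := by rw [← Over.w j]; infer_instance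
  haveI : IsLocallyNoetherian H.left := LocallyOfFiniteType.isLocallyNoetherian H.hom
  haveI : LocallyOfFinitePresentation H.hom := LocallyOfFinitePresentation.iff_locallyOfFiniteType.2 inferInstance
  have hbc : Red.IsTorus (Red.bc c H) := RedRank.isTorus_of_iso φ hT₀
  haveI : QuasiCompact H.hom := by
    haveI : IsAffineHom (Red.bc c H).hom := MultEq.isAffineHom_of_isMultTypeFT (RedRank.isMultTypeFT_of_isTorus hbc)
    haveI : IsAffine (Red.bc c H).left := isAffine_of_isAffineHom (Red.bc c H).hom
    haveI : Surjective (pullback.fst H.hom c) := MorphismProperty.pullback_fst (P := @Surjective) _ _ ‹_›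
    haveI : CompactSpace ↥(pullback H.hom c) := inferInstanceAs (CompactSpace ↥(Red.bc c H).left)
    haveI : CompactSpace ↥H.left :=
      ⟨by rw [← (pullback.fst H.hom c).surjective.range_eq]; exact isCompact_range (pullback.fst H.hom c).continuous⟩
    exact (quasiCompact_iff_compactSpace H.hom).2 inferInstance
  have hH : Red.IsTorus H := (Groth.Agent.S5265.result H).2 fun s => by
    haveI : AlgebraicGeometry.IsReduced (Spec ((Spec (CommRingCat.of A)).residueField s)) := inferInstance
    obtain ⟨d, hd⟩ := AVAmpleLib.exists_lift_of_reduced c ((Spec (CommRingCat.of A)).fromSpecResidueField s)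
      (by rw [c.surjective.range_eq]; exact Set.subset_univ _)
    let e : Red.bc d (Red.bc c H) ≅ Red.bc ((Spec (CommRingCat.of A)).fromSpecResidueField s) H :=
      ActBC.bcCompIso d c H hd
    haveI : IsMonHom e.hom := ActBC.bcCompIso_isMonHom _ _ _
    haveI : IsMonHom e.symm.hom := inferInstanceAs (IsMonHom e.inv)
    exact RedRank.isTorus_of_iso e.symm (RedRank.isTorus_bc hbc d)
  refine ⟨H, inferInstance, j, TorsTuple.isMaximalTorus_of_bc hH fun s => ⟨_, c, pt, Subsingleton.elim _ _, ?_⟩⟩
  exact hφ ▸ TorsTuple.isMaximalTorus_precomp φ hi₀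

/-- Every subtorus lies in a maximal torus. -/
theorem exists_maximalTorus_containing (G : Over (Spec (CommRingCat.of A))) [GrpObj G] [Smooth G.hom]
    [QuasiCompact G.hom] (R : Over (Spec (CommRingCat.of A))) [GrpObj R] (r : R ⟶ G) [IsMonHom r] [Mono r]
    (hR : Red.IsTorus R) :
    ∃ (T : Over (Spec (CommRingCat.of A))) (_ : GrpObj T) (i : T ⟶ G) (f : R ⟶ T),
      Red.IsMaximalTorus i ∧ f ≫ i = r := by
  haveI : IsLocallyNoetherian G.left := LocallyOfFiniteType.isLocallyNoetherian G.hom
  haveI : QuasiSeparated G.hom := inferInstance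
  haveI : Smooth R.hom := MaxTorConj.smooth_of_isTorus hR
  haveI : IsAffineHom R.hom := MultEq.isAffineHom_of_isMultTypeFT (RedRank.isMultTypeFT_of_isTorus hR)
  haveI : Mono r.left := inferInstanceAs (Mono ((Over.forget _).map r))
  haveI : QuasiCompact r.left := WittGrpLib.quasiCompact_left r
  haveI : IsClosedImmersion r.left := GrpHom.isClosedImmersion_of_mono_artinian r
  obtain ⟨⟨Z, _, z, hZc, hzcl, hZs⟩, -⟩ := Groth.Agent.S3006.result _ G R r inferInstance hR
  haveI := hzcl; haveI := hZs; haveI := hZc.1; haveI := hZc.2.1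
  haveI : QuasiCompact Z.hom := by rw [← Over.w z]; infer_instance
  haveI : LocallyOfFinitePresentation Z.hom := inferInstance
  obtain ⟨T, _, t, ht⟩ := exists_maximalTorus_artinian Z
  haveI := ht.1; haveI := ht.2.1
  obtain ⟨r', hr'⟩ := (hZc.2.2 R r).2 fun X' x h => by
    rw [← MonObj.mul_comp, ← MonObj.mul_comp, RCentre.commute_torus hR]
  haveI : IsMonHom (r' ≫ z) := by rw [hr']; infer_instance
  haveI : IsMonHom r' := DiagRep.isMonHom_of_comp_mono r' z
  have hcent : MultLift.Central r' := fun X g h => by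
    rw [← cancel_mono z, MonObj.mul_comp, MonObj.mul_comp, Category.assoc, hr']
    have := (hZc.2.2 X (g ≫ z)).1 ⟨g, rfl⟩ X (𝟙 X) h
    rwa [Category.id_comp] at this
  haveI := MultEq.lfp_of_isMultTypeFT (RedRank.isMultTypeFT_of_isTorus ht.2.2.1)
  obtain ⟨w, hw⟩ := exists_factor_of_fibres (i := r') (i' := t) (RedRank.isMultTypeFT_of_isTorus hR)
    (RedRank.isMultTypeFT_of_isTorus ht.2.2.1) (Or.inl hcent) fun x => by
    let px := Red.geomPt x
    haveI : Smooth (Red.bc px Z).hom := MorphismProperty.pullback_snd (P := @Smooth) _ _ inferInstance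
    haveI : QuasiCompact (Red.bc px Z).hom := MorphismProperty.pullback_snd (P := @QuasiCompact) _ _ inferInstance
    haveI := DiagRep.isMonHom_bc_map px t
    haveI := BorelLib.mono_bc px t
    haveI := DiagRep.isMonHom_bc_map px r'
    have hM : AGF.IsMaxTorus (G := Red.bc px Z) ((Over.pullback px).map t) :=
      ⟨inferInstance, inferInstance, RedRank.isTorus_bc ht.2.2.1 px, fun R' _ J _ _ f hR' hf => ht.2.2.2 x R' J f hR' hf⟩
    obtain ⟨f, hf⟩ := exists_factor_commuting hM ((Over.pullback px).map r') (RedRank.isTorus_bc hR px)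
      fun X b a => (MultLift.central_bc px hcent X (a ≫ (Over.pullback px).map t) b).symm
    have hx : MultEq.LE r' t px := le_of_hom px r' t f hf
    let K := AlgebraicClosure ((Spec (CommRingCat.of A)).residueField x)
    let q : Spec (CommRingCat.of K) ⟶ Spec ((Spec (CommRingCat.of A)).residueField x) :=
      Spec.map (CommRingCat.ofHom (algebraMap ((Spec (CommRingCat.of A)).residueField x) K))
    haveI : Surjective q := ⟨fun y => ⟨IsLocalRing.closedPoint K,
      @Subsingleton.elim _ (inferInstanceAs (Subsingleton (PrimeSpectrum ((Spec (CommRingCat.of A)).residueField x)))) _ _⟩⟩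
    haveI : Flat q := by
      rw [HasRingHomProperty.Spec_iff (P := @Flat)]
      exact RingHom.flat_algebraMap_iff.2 inferInstance
    exact le_of_family (fun _ : PUnit.{u + 1} => q) (fun _ => inferInstance)
      (fun y => ⟨PUnit.unit, q.surjective y⟩) fun _ => hx
  have hwz : w ≫ t ≫ z = r := by rw [← Category.assoc, hw, hr']
  refine ⟨T, inferInstance, t ≫ z, w, ⟨inferInstance, inferInstance, ht.2.2.1, fun s T' _ J _ _ f hT' hf => ?_⟩, hwz⟩
  let p := Red.geomPt s
  have hZp := BorelLib.isCentralizerOf_bc p hZc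
  haveI := hZp.1; haveI := hZp.2.1
  obtain ⟨J', hJ'⟩ := (hZp.2.2 T' J).2 fun X' x h => by
    have e : (Over.pullback p).map r = (Over.pullback p).map w ≫ f ≫ J := by
      rw [hf, ← Functor.map_comp, hwz]
    rw [e, ← Category.assoc, ← Category.assoc, ← MonObj.mul_comp, ← MonObj.mul_comp, RCentre.commute_torus hT']
  haveI : IsMonHom (J' ≫ (Over.pullback p).map z) := by rw [hJ']; infer_instance
  haveI : IsMonHom J' := DiagRep.isMonHom_of_comp_mono J' ((Over.pullback p).map z)
  haveI : Mono (J' ≫ (Over.pullback p).map z) := by rw [hJ']; infer_instance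
  haveI : Mono J' := mono_of_mono J' ((Over.pullback p).map z)
  refine ht.2.2.2 s T' J' f hT' ?_
  rw [← cancel_mono ((Over.pullback p).map z), Category.assoc, hJ', hf, Functor.map_comp]

end Groth.Agent.CentMaxTor

end
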