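import Groth.Agent.CentMaxTorLib.Artin
import Groth.Agent.MaxTorFieldLib.Comm
import Groth.Agent.RichLib.FibreCrit
import Groth.Agent.S8387
import Groth.Agent.S8407
import Groth.Agent.S14547

/-!
A subgroup with fibres centralizers of tori is the centralizer of a torus, over an artinian local ring.
-/

set_option autoImplicit false
set_option linter.style.haveILetI false
set_option backward.isDefEq.respectTransparency false
set_option maxHeartbeats 2000000
set_option synthInstance.maxHeartbeats 200000

noncomputable section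

universe u

open CategoryTheory CategoryTheory.Limits MonoidalCategory CartesianMonoidalCategory AlgebraicGeometry
open scoped MonObj

attribute [-instance] CategoryTheory.Hom.commGroup

namespace Groth.Agent.CentMaxTor

/-- A monomorphism between flat groups of finite presentation which is an isomorphism on the fibres is one. -/
theorem isIso_of_fibres_mono {S : Scheme.{u}} {H Z : Over S} [Flat H.hom] [LocallyOfFinitePresentation H.hom]
    [LocallyOfFinitePresentation Z.hom] (u : H ⟶ Z) [Mono u]
    (h : ∀ s : S, IsIso ((Over.pullback (S.fromSpecResidueField s)).map u)) : IsIso u := by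
  haveI : Mono u.left := inferInstanceAs (Mono ((Over.forget _).map u))
  haveI : LocallyOfFinitePresentation (u.left ≫ Z.hom) := by rw [Over.w u]; infer_instance
  haveI : Flat (u.left ≫ Z.hom) := by rw [Over.w u]; infer_instance
  haveI : LocallyOfFinitePresentation u.left := AlgSpLib.lfp_of_comp_lft _ Z.hom
  haveI : Flat u.left := RichLib.FibreCrit.flat_of_fibres Z.hom u.left fun s => by
    haveI := h s
    let v := ((Over.pullback (S.fromSpecResidueField s)).map u).left
    haveI : IsIso v := (Over.forget _).map_isIso ((Over.pullback _).map u)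
    have sq := SubDesc.isPullback_map_left (S.fromSpecResidueField s) u
    show Flat (pullback.snd u.left (pullback.fst Z.hom (S.fromSpecResidueField s)))
    rw [show pullback.snd u.left (pullback.fst Z.hom (S.fromSpecResidueField s)) = sq.isoPullback.inv ≫ v from
      sq.isoPullback_inv_snd.symm]
    infer_instance
  haveI := IsOpenImmersion.of_flat_of_mono u.left
  haveI : Surjective u.left := ⟨fun z => by
    haveI := h (Z.hom z)
    let v := ((Over.pullback (S.fromSpecResidueField (Z.hom z))).map u).left
    haveI : IsIso v := (Over.forget _).map_isIso ((Over.pullback _).map u)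
    obtain ⟨w, hw, -⟩ := Scheme.Pullback.exists_preimage_pullback (f := Z.hom)
      (g := S.fromSpecResidueField (Z.hom z)) z (IsLocalRing.closedPoint _) (S.fromSpecResidueField_apply _ _).symm
    obtain ⟨y, rfl⟩ := (show Surjective v from inferInstance).surj w
    refine ⟨pullback.fst H.hom (S.fromSpecResidueField (Z.hom z)) y, ?_⟩
    exact (congrArg (fun a => a y) (ActBC.pullback_map_left_fst (S.fromSpecResidueField (Z.hom z)) u)).symm.trans hw⟩
  haveI : Epi u.left.base := (TopCat.epi_iff_surjective _).2 u.left.surjective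
  haveI : IsIso u.left := IsOpenImmersion.isIso u.left
  haveI : IsIso ((Over.forget S).map u) := ‹IsIso u.left›
  exact isIso_of_reflects_iso u (Over.forget S)

variable {A : Type u} [CommRing A] [IsArtinianRing A] [IsLocalRing A]

/-- A smooth subgroup whose geometric fibre is the centralizer of a torus is the centralizer of a torus. -/
theorem exists_torus_centralizer_artinian (G : Over (Spec (CommRingCat.of A))) [GrpObj G] [Smooth G.hom]
    [QuasiCompact G.hom] (s : ↥(Spec (CommRingCat.of A))) (hconn : _root_.IsConnected (G.hom.base ⁻¹' {s}))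
    (H : Over (Spec (CommRingCat.of A))) [GrpObj H] [Smooth H.hom] (i : H ⟶ G) [IsMonHom i] [Mono i]
    [IsImmersion i.left] (T' : Over (Spec (CommRingCat.of (AlgebraicClosure ((Spec (CommRingCat.of A)).residueField s)))))
    [GrpObj T'] (j' : T' ⟶ Red.geomFibre s G) [IsMonHom j'] [Mono j'] (hT' : Red.IsTorus T')
    (hcent : Red.IsCentralizerOf j' ((Over.pullback (Red.geomPt s)).map i)) :
    ∃ (T : Over (Spec (CommRingCat.of A))) (_ : GrpObj T) (j : T ⟶ G) (_ : IsMonHom j) (_ : Mono j), Red.IsTorus T ∧
      Red.IsCentralizerOf j i ∧ IsClosedImmersion i.left := by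
  let S := Spec (CommRingCat.of A)
  haveI : IsLocallyNoetherian G.left := LocallyOfFiniteType.isLocallyNoetherian G.hom
  haveI : IsLocallyNoetherian H.left := LocallyOfFiniteType.isLocallyNoetherian H.hom
  haveI : CompactSpace ↥G.left := (quasiCompact_iff_compactSpace G.hom).1 inferInstance
  haveI : IsNoetherian G.left := {}
  haveI : TopologicalSpace.NoetherianSpace ↥H.left := i.left.isEmbedding.isInducing.noetherianSpace
  haveI : QuasiCompact i.left := inferInstance
  haveI : QuasiCompact H.hom := by rw [← Over.w i]; infer_instance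
  haveI : QuasiSeparated H.hom := inferInstance
  haveI : QuasiSeparated G.hom := inferInstance
  haveI : LocallyOfFinitePresentation H.hom := inferInstance
  haveI : Subsingleton ↥S := inferInstanceAs (Subsingleton (PrimeSpectrum A))
  let m := IsLocalRing.maximalIdeal A
  letI : Field (A ⧸ m) := Ideal.Quotient.field m
  let c : Spec (CommRingCat.of (A ⧸ m)) ⟶ S := Spec.map (CommRingCat.ofHom (Ideal.Quotient.mk m))
  haveI : IsClosedImmersion c := IsClosedImmersion.spec_of_surjective _ Ideal.Quotient.mk_surjective
  haveI : Surjective c := ⟨fun x => ⟨IsLocalRing.closedPoint (A ⧸ m), Subsingleton.elim _ _⟩⟩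
  let K := AlgebraicClosure (S.residueField s)
  let px : Spec (CommRingCat.of K) ⟶ S := Red.geomPt s
  haveI : AlgebraicGeometry.IsReduced (Spec (S.residueField s)) := inferInstance
  obtain ⟨d, hd⟩ := AVAmpleLib.exists_lift_of_reduced c (S.fromSpecResidueField s)
    (by rw [c.surjective.range_eq]; exact Set.subset_univ _)
  let l : Spec (CommRingCat.of K) ⟶ Spec (CommRingCat.of (A ⧸ m)) :=
    Spec.map (CommRingCat.ofHom (algebraMap (S.residueField s) K)) ≫ d
  have hl : l ≫ c = px := by
    show (Spec.map _ ≫ d) ≫ c = _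
    rw [Category.assoc, hd]
  haveI : Surjective l := ⟨fun x => ⟨IsLocalRing.closedPoint K,
    @Subsingleton.elim _ (inferInstanceAs (Subsingleton (PrimeSpectrum (A ⧸ m)))) _ _⟩⟩
  let H₀ := Red.bc c H
  haveI : Smooth H₀.hom := MorphismProperty.pullback_snd (P := @Smooth) _ _ inferInstance
  haveI : QuasiCompact H₀.hom := MorphismProperty.pullback_snd (P := @QuasiCompact) _ _ inferInstance
  haveI : Smooth (Red.bc c G).hom := MorphismProperty.pullback_snd (P := @Smooth) _ _ inferInstance
  haveI : Smooth (Red.bc px G).hom := MorphismProperty.pullback_snd (P := @Smooth) _ _ inferInstance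
  haveI : QuasiCompact (Red.bc px G).hom := MorphismProperty.pullback_snd (P := @QuasiCompact) _ _ inferInstance
  haveI : ConnectedSpace ↥G.left := connectedSpace_iff_univ.2 (by
    have e : (Set.univ : Set ↥G.left) = G.hom.base ⁻¹' {s} := Set.ext fun x => by simp [Subsingleton.elim (G.hom x) s]
    rw [e]
    exact hconn)
  haveI : ConnectedSpace ↥(Red.bc c G).left := by
    haveI : IsClosedImmersion (pullback.fst G.hom c) := MorphismProperty.pullback_fst (P := @IsClosedImmersion) _ _ ‹_›
    haveI : Surjective (pullback.fst G.hom c) := MorphismProperty.pullback_fst (P := @Surjective) _ _ ‹_›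
    exact ((pullback.fst G.hom c).isClosedEmbedding.isEmbedding.toHomeomorphOfSurjective
      (pullback.fst G.hom c).surjective).connectedSpace_iff.2 inferInstance
  let cG : Red.bc l (Red.bc c G) ≅ Red.bc px G := ActBC.bcCompIso l c G hl
  let cH : Red.bc l H₀ ≅ Red.bc px H := ActBC.bcCompIso l c H hl
  haveI : IsMonHom cH.hom := ActBC.bcCompIso_isMonHom _ _ _
  haveI : IsMonHom cH.inv := inferInstance
  haveI : ConnectedSpace ↥(Red.bc px G).left := by
    haveI : LocallyOfFiniteType (Red.bc c G).hom := inferInstance
    haveI := CommSubLib.geometricallyIrreducible_of_connected (Red.bc c G)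
    haveI : IrreducibleSpace ↥(pullback (Red.bc c G).hom l) :=
      GeometricallyIrreducible.geometrically_irreducibleSpace _ _ _ (.of_hasPullback _ _)
    haveI : ConnectedSpace ↥(Red.bc l (Red.bc c G)).left := inferInstanceAs (ConnectedSpace ↥(pullback (Red.bc c G).hom l))
    exact (Scheme.homeoOfIso ((Over.forget _).mapIso cG)).connectedSpace_iff.1 ‹ConnectedSpace ↥(Red.bc l (Red.bc c G)).left›
  haveI := hcent.1; haveI := hcent.2.1
  haveI : ConnectedSpace ↥(Red.bc px H).left :=
    (Groth.Agent.S8407.result _ _ T' j' hT' _ _ hcent).2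
  haveI : ConnectedSpace ↥H₀.left := by
    haveI : ConnectedSpace ↥(Red.bc l H₀).left :=
      (Scheme.homeoOfIso ((Over.forget _).mapIso cH)).connectedSpace_iff.2 ‹ConnectedSpace ↥(Red.bc px H).left›
    haveI : Surjective (pullback.fst H₀.hom l) := MorphismProperty.pullback_fst (P := @Surjective) _ _ ‹_›
    haveI : ConnectedSpace ↥(pullback H₀.hom l) := ‹ConnectedSpace ↥(Red.bc l H₀).left›
    exact (pullback.fst H₀.hom l).surjective.connectedSpace (pullback.fst H₀.hom l).continuous
  -- the greatest central torus of the closed fibre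
  obtain ⟨Zc, _, zc, hzc, hzcl, hzch, -⟩ := AntiAffLib.exists_centre H₀
  haveI := hzc; haveI := hzcl
  haveI : Mono zc := Over.mono_of_mono_left zc
  have hzcC : Red.IsCentralizerOf (𝟙 H₀) zc := ⟨hzc, inferInstance, fun X g => by
    simp only [Category.comp_id]
    exact hzch X g⟩
  have hzcomm : ∀ (X : Over (Spec (CommRingCat.of (A ⧸ m)))) (a : X ⟶ Zc) (g : X ⟶ H₀), (a ≫ zc) * g = g * (a ≫ zc) :=
    fun X a g => by
      have := (hzch X (a ≫ zc)).1 ⟨a, rfl⟩ X (𝟙 X) g
      rwa [Category.id_comp] at this
  haveI : IsCommMonObj Zc := (isCommMonObj_iff_isMulCommutative Zc).2 fun X => ⟨⟨fun a b => by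
    rw [← cancel_mono zc, MonObj.mul_comp, MonObj.mul_comp, hzcomm]⟩⟩
  haveI : LocallyOfFiniteType Zc.hom := by rw [← Over.w zc]; infer_instance
  haveI : QuasiCompact Zc.hom := by rw [← Over.w zc]; infer_instance
  obtain ⟨T₀, _, t₀, ht₀, ht₀m, hT₀, huniv⟩ := MaxTorField.exists_greatest_qc Zc
  haveI := ht₀; haveI := ht₀m
  -- it contains the given torus
  obtain ⟨j'', hj''⟩ := (hcent.2.2 T' j').2 fun X' x h => by
    rw [← MonObj.mul_comp, ← MonObj.mul_comp, RCentre.commute_torus hT']
  have hj''c : ∀ (X : Over (Spec (CommRingCat.of K))) (a : X ⟶ T') (g : X ⟶ Red.bc px H),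
      (a ≫ j'') * g = g * (a ≫ j'') := fun X a g => by
    rw [← cancel_mono ((Over.pullback px).map i), MonObj.mul_comp, MonObj.mul_comp, Category.assoc, hj'']
    have := (hcent.2.2 X (g ≫ (Over.pullback px).map i)).1 ⟨g, rfl⟩ X (𝟙 X) a
    rw [Category.id_comp] at this
    exact this.symm
  haveI : IsMonHom (j'' ≫ (Over.pullback px).map i) := by rw [hj'']; infer_instance
  haveI : IsMonHom j'' := DiagRep.isMonHom_of_comp_mono j'' ((Over.pullback px).map i)
  have hzl := BorelLib.isCentralizerOf_bc l hzcC
  haveI := hzl.1; haveI := hzl.2.1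
  obtain ⟨v, hv⟩ := (hzl.2.2 T' (j'' ≫ cH.inv)).2 fun X' x h => by
    rw [CategoryTheory.Functor.map_id]
    erw [Category.comp_id]
    rw [← cancel_mono cH.hom, MonObj.mul_comp, MonObj.mul_comp, Category.assoc, Category.assoc, Iso.inv_hom_id,
      Category.comp_id]
    exact hj''c _ x (h ≫ cH.hom)
  haveI : IsMonHom (v ≫ (Over.pullback l).map zc) := by rw [hv]; infer_instance
  haveI : IsMonHom v := DiagRep.isMonHom_of_comp_mono v ((Over.pullback l).map zc)
  obtain ⟨f₀, hf₀⟩ := huniv K l T' v hT'
  -- lift it
  have hnil : ∀ x ∈ m, IsNilpotent x := fun x hx => by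
    obtain ⟨n, hn⟩ : IsNilpotent (IsLocalRing.maximalIdeal A) := by
      rw [← IsLocalRing.jacobson_eq_maximalIdeal (⊥ : Ideal A) bot_ne_top]
      exact IsArtinianRing.isNilpotent_jacobson_bot
    refine ⟨n, ?_⟩
    have := Ideal.pow_mem_pow hx n
    rw [hn] at this
    exact this
  obtain ⟨T, _, j, hj, hjm, hT, ⟨e, he⟩, hjc, -⟩ := Groth.Agent.S8387.result A m (IsNoetherian.noetherian m) hnil H
    T₀ (t₀ ≫ zc) hT₀ fun X x g => by rw [← Category.assoc]; exact hzcomm X (x ≫ t₀) g
  haveI := hj; haveI := hjm
  let r : T ⟶ G := j ≫ i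
  haveI : IsMonHom r := by show IsMonHom (j ≫ i); infer_instance
  haveI : Mono r := by show Mono (j ≫ i); infer_instance
  haveI : Smooth T.hom := MaxTorConj.smooth_of_isTorus hT
  haveI : IsAffineHom T.hom := MultEq.isAffineHom_of_isMultTypeFT (RedRank.isMultTypeFT_of_isTorus hT)
  haveI : Mono r.left := inferInstanceAs (Mono ((Over.forget _).map r))
  haveI : QuasiCompact r.left := WittGrpLib.quasiCompact_left r
  haveI : IsClosedImmersion r.left := GrpHom.isClosedImmersion_of_mono_artinian r
  obtain ⟨⟨Z, _, z, hZc, hzcl', hZs⟩, -⟩ := Groth.Agent.S3006.result _ G T r inferInstance hT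
  haveI := hzcl'; haveI := hZs; haveI := hZc.1; haveI := hZc.2.1
  obtain ⟨u, hu⟩ := (hZc.2.2 H i).2 fun X' x h => by
    show (x ≫ i) * (h ≫ j ≫ i) = _
    rw [← Category.assoc h, ← MonObj.mul_comp, ← MonObj.mul_comp, hjc]
  haveI : Mono (u ≫ z) := by rw [hu]; infer_instance
  haveI : Mono u := mono_of_mono u z
  haveI : LocallyOfFinitePresentation Z.hom := inferInstance
  haveI : IsIso u := isIso_of_fibres_mono u fun s₁ => by
    obtain rfl : s₁ = s := Subsingleton.elim _ _
    let q : Spec (CommRingCat.of K) ⟶ Spec (S.residueField s₁) :=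
      Spec.map (CommRingCat.ofHom (algebraMap (S.residueField s₁) K))
    haveI : Surjective q := ⟨fun y => ⟨IsLocalRing.closedPoint K,
      @Subsingleton.elim _ (inferInstanceAs (Subsingleton (PrimeSpectrum (S.residueField s₁)))) _ _⟩⟩
    haveI : Flat q := by
      rw [HasRingHomProperty.Spec_iff (P := @Flat)]
      exact RingHom.flat_algebraMap_iff.2 inferInstance
    haveI : QuasiCompact q := inferInstance
    haveI hx : IsIso ((Over.pullback px).map u) := by
      have hZp := BorelLib.isCentralizerOf_bc px hZc
      haveI := hZp.1; haveI := hZp.2.1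
      let cT : Red.bc l (Red.bc c T) ≅ Red.bc px T := ActBC.bcCompIso l c T hl
      let φ : T' ⟶ Red.bc px T := f₀ ≫ (Over.pullback l).map e.inv ≫ cT.hom
      have hφ : φ ≫ (Over.pullback px).map r = j' := by
        have e1 : (Over.pullback l).map e.inv ≫ (Over.pullback l).map ((Over.pullback c).map j) =
            (Over.pullback l).map t₀ ≫ (Over.pullback l).map zc := by
          rw [← Functor.map_comp, ← Functor.map_comp, ← he, Iso.inv_hom_id_assoc]
        have e2 : cT.hom ≫ (Over.pullback px).map j = (Over.pullback l).map ((Over.pullback c).map j) ≫ cH.hom :=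
          (ActBC.bcCompIso_hom_naturality (h := hl) (φ := j)).symm
        show (f₀ ≫ (Over.pullback l).map e.inv ≫ cT.hom) ≫ (Over.pullback px).map (j ≫ i) = _
        rw [Functor.map_comp, Category.assoc, Category.assoc, reassoc_of% e2, reassoc_of% e1, reassoc_of% hf₀,
          reassoc_of% hv, Iso.inv_hom_id_assoc, hj'']
      obtain ⟨w, hw⟩ := (hcent.2.2 _ ((Over.pullback px).map z)).2 fun X' x h => by
        have := (hZp.2.2 _ ((Over.pullback px).map z)).1 ⟨𝟙 _, Category.id_comp _⟩ X' x (h ≫ φ)
        rw [Category.assoc, hφ] at this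
        exact this
      have h1 : (Over.pullback px).map u ≫ (Over.pullback px).map z = (Over.pullback px).map i := by
        rw [← Functor.map_comp, hu]
      refine ⟨w, ?_, ?_⟩
      · rw [← cancel_mono ((Over.pullback px).map i), Category.assoc, hw, h1, Category.id_comp]
      · rw [← cancel_mono ((Over.pullback px).map z), Category.assoc, h1, hw, Category.id_comp]
    have h2 : IsIso ((Over.pullback q).map ((Over.pullback (S.fromSpecResidueField s₁)).map u)) := by
      let cH' := ActBC.bcCompIso q (S.fromSpecResidueField s₁) H (d := px) rfl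
      let cZ' := ActBC.bcCompIso q (S.fromSpecResidueField s₁) Z (d := px) rfl
      have : (Over.pullback q).map ((Over.pullback (S.fromSpecResidueField s₁)).map u) =
          cH'.hom ≫ (Over.pullback px).map u ≫ cZ'.inv := by
        rw [← Category.assoc, Iso.eq_comp_inv]
        exact ActBC.bcCompIso_hom_naturality (h := rfl) (φ := u)
      rw [this]
      infer_instance
    exact Groth.Agent.S14547.isIso_of_bc q _ h2
  refine ⟨T, inferInstance, r, inferInstance, inferInstance, hT, ⟨inferInstance, inferInstance, fun X g => ?_⟩, ?_⟩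
  · rw [← hZc.2.2 X g]
    constructor
    · rintro ⟨a, rfl⟩
      exact ⟨a ≫ u, by rw [Category.assoc, hu]⟩
    · rintro ⟨a, rfl⟩
      exact ⟨a ≫ inv u, by rw [Category.assoc, ← hu, IsIso.inv_hom_id_assoc]⟩
  · haveI : IsIso u.left := (Over.forget _).map_isIso u
    rw [← hu, Over.comp_left]
    infer_instance

end Groth.Agent.CentMaxTor

end
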