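import Groth.Agent.CentMaxTorLib.Global
import Groth.Agent.SubDescLib.Descend
import Groth.Agent.SubDescLib.Main
import Groth.Agent.TorsTupleLib.Pieces
import Groth.Agent.TorsTupleLib.Sigma

/-!
Descent of a central maximal torus.
-/

set_option autoImplicit false
set_option linter.style.haveILetI false
set_option backward.isDefEq.respectTransparency false
set_option maxHeartbeats 1000000
set_option synthInstance.maxHeartbeats 200000

noncomputable section

universe u

open CategoryTheory CategoryTheory.Limits MonoidalCategory CartesianMonoidalCategory AlgebraicGeometry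
open scoped MonObj

attribute [-instance] CategoryTheory.Hom.commGroup

namespace Groth.Agent.CentMaxTor

variable {S S' : Scheme.{u}} (π : S' ⟶ S) [Flat π] [Surjective π] {G : Over S} [GrpObj G]
  [LocallyOfFinitePresentation G.hom] [QuasiCompact G.hom] {H' : Over S'} [GrpObj H'] (j' : H' ⟶ Red.bc π G)

omit [Flat π] [Surjective π] [GrpObj G] [LocallyOfFinitePresentation G.hom] [QuasiCompact G.hom] [GrpObj H'] in
theorem lift_ext [Mono j'] {T : Scheme.{u}} (v w : T ⟶ H'.left) (h₁ : v ≫ H'.hom = w ≫ H'.hom)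
    (h₂ : v ≫ j'.left ≫ pullback.fst G.hom π = w ≫ j'.left ≫ pullback.fst G.hom π) : v = w := by
  haveI : Mono j'.left := inferInstanceAs (Mono ((Over.forget _).map j'))
  rw [← cancel_mono j'.left]
  refine pullback.hom_ext (by rw [Category.assoc, Category.assoc, h₂]) ?_
  have e : j'.left ≫ pullback.snd G.hom π = H'.hom := Over.w j'
  exact (Category.assoc _ _ _).trans (((congrArg (v ≫ ·) e).trans (h₁.trans (congrArg (w ≫ ·) e).symm)).trans
    (Category.assoc _ _ _).symm)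

omit [Flat π] [Surjective π] in
/-- The two pullbacks of the torus to the double covering agree. -/
theorem swap (hT' : Red.IsMaximalTorus j') (hc : MultLift.Central j') {Z : Scheme.{u}} (x₀ x₁ : Z ⟶ S')
    (hx : x₀ ≫ π = x₁ ≫ π) (v : Z ⟶ H'.left) (hv : v ≫ H'.hom = x₀) :
    ∃ v' : Z ⟶ H'.left, v' ≫ H'.hom = x₁ ∧
      v' ≫ j'.left ≫ pullback.fst G.hom π = v ≫ j'.left ≫ pullback.fst G.hom π := by
  haveI := hT'.1
  haveI : LocallyOfFinitePresentation (Red.bc π G).hom :=
    inferInstanceAs (LocallyOfFinitePresentation (pullback.snd G.hom π))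
  haveI : QuasiCompact (Red.bc π G).hom := inferInstanceAs (QuasiCompact (pullback.snd G.hom π))
  let c₀ : Red.bc x₀ (Red.bc π G) ≅ Red.bc (x₀ ≫ π) G := ActBC.bcCompIso x₀ π G rfl
  let c₁ : Red.bc x₁ (Red.bc π G) ≅ Red.bc (x₀ ≫ π) G := ActBC.bcCompIso x₁ π G hx.symm
  haveI : IsMonHom c₀.hom := ActBC.bcCompIso_isMonHom _ _ _
  haveI : IsMonHom c₁.hom := ActBC.bcCompIso_isMonHom _ _ _
  haveI : IsMonHom c₁.inv := inferInstance
  haveI : IsMonHom (M := Red.bc x₀ H') (N := Red.bc x₀ (Red.bc π G)) ((Over.pullback x₀).map j') :=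
    DiagRep.isMonHom_bc_map x₀ j'
  let u : Red.bc x₀ H' ⟶ Red.bc x₁ (Red.bc π G) := (Over.pullback x₀).map j' ≫ c₀.hom ≫ c₁.inv
  haveI : IsMonHom u := by
    show IsMonHom ((Over.pullback x₀).map j' ≫ c₀.hom ≫ c₁.inv)
    infer_instance
  obtain ⟨φ, hφ⟩ := exists_factor_central hT' hc x₁ u (RedRank.isTorus_bc hT'.2.2.1 x₀)
  let σ : Z ⟶ (Red.bc x₀ H').left := pullback.lift v (𝟙 Z) (by rw [hv, Category.id_comp])
  let w : Z ⟶ (Red.bc x₁ H').left := σ ≫ φ.left
  refine ⟨w ≫ pullback.fst H'.hom x₁, ?_, ?_⟩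
  · have h1 : φ.left ≫ pullback.snd H'.hom x₁ = pullback.snd H'.hom x₀ := Over.w φ
    rw [Category.assoc, pullback.condition, Category.assoc, reassoc_of% h1]
    exact (pullback.lift_snd_assoc _ _ _ _).trans (Category.id_comp _)
  · have h1 : pullback.fst H'.hom x₁ ≫ j'.left ≫ pullback.fst G.hom π =
        ((Over.pullback x₁).map j').left ≫ c₁.hom.left ≫ pullback.fst G.hom (x₀ ≫ π) := by
      rw [ActBC.bcCompIso_hom_left_fst, ActBC.pullback_map_left_fst_assoc]
    have h2 : pullback.fst H'.hom x₀ ≫ j'.left ≫ pullback.fst G.hom π =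
        ((Over.pullback x₀).map j').left ≫ c₀.hom.left ≫ pullback.fst G.hom (x₀ ≫ π) := by
      rw [ActBC.bcCompIso_hom_left_fst, ActBC.pullback_map_left_fst_assoc]
    have h3 : φ.left ≫ ((Over.pullback x₁).map j').left ≫ c₁.hom.left =
        ((Over.pullback x₀).map j').left ≫ c₀.hom.left := by
      rw [← Over.comp_left, ← Over.comp_left, ← Over.comp_left, reassoc_of% hφ]
      show (((Over.pullback x₀).map j' ≫ c₀.hom ≫ c₁.inv) ≫ c₁.hom).left = _
      simp
    show ((σ ≫ φ.left) ≫ pullback.fst H'.hom x₁) ≫ j'.left ≫ pullback.fst G.hom π = _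
    rw [Category.assoc, Category.assoc, h1, reassoc_of% h3, ← h2]
    exact pullback.lift_fst_assoc _ _ _ _

variable [IsMonHom j'] [Mono j']

/-- The torus descends to a subobject of the group. -/
theorem exists_descend
    (hcov : ∀ V : S.Opens, IsAffineOpen V → ∃ W : S'.Opens, IsCompact (W : Set S') ∧ π.base '' (W : Set S') = (V : Set S))
    (hT' : Red.IsMaximalTorus j') (hc : MultLift.Central j') :
    ∃ (U : Over S) (j : U ⟶ G) (θ : Red.bc π U ≅ H'), θ.hom ≫ j' = (Over.pullback π).map j := by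
  haveI hfp : DescLib.Fpqc π := ⟨DescHom.singleton_mem_fpqc π hcov⟩
  have hsw := fun {T : Scheme.{u}} (x₀ x₁ : T ⟶ S') (hx : x₀ ≫ π = x₁ ≫ π) (v : Desc.Lifts H' x₀) =>
    swap π j' hT' hc x₀ x₁ hx v.1 v.2
  choose sw hsw₁ hsw₂ using @hsw
  let mp : ∀ {T : Scheme.{u}} (x₀ x₁ : T ⟶ S'), x₀ ≫ π = x₁ ≫ π → Desc.Lifts H' x₀ → Desc.Lifts H' x₁ :=
    fun x₀ x₁ h v => ⟨sw x₀ x₁ h v, hsw₁ x₀ x₁ h v⟩
  have hext : ∀ {T : Scheme.{u}} {x : T ⟶ S'} (v w : Desc.Lifts H' x),
      v.1 ≫ j'.left ≫ pullback.fst G.hom π = w.1 ≫ j'.left ≫ pullback.fst G.hom π → v = w :=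
    fun v w h => Subtype.ext (lift_ext π j' v.1 w.1 (v.2.trans w.2.symm) h)
  let D : Desc.SchDD π :=
    { obj := H'
      φ := fun T x₀ x₁ h =>
        { toFun := mp x₀ x₁ h
          invFun := mp x₁ x₀ h.symm
          left_inv := fun v => hext _ _ ((hsw₂ _ _ _ _).trans (hsw₂ _ _ _ _))
          right_inv := fun v => hext _ _ ((hsw₂ _ _ _ _).trans (hsw₂ _ _ _ _)) }
      φ_natural := fun T T' g x₀ x₁ h h' v v' hv' => by
        refine lift_ext π j' _ _ ?_ ?_
        · show sw _ _ h' v' ≫ H'.hom = (g ≫ sw x₀ x₁ h v) ≫ H'.hom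
          rw [hsw₁, Category.assoc, hsw₁]
        · show sw _ _ h' v' ≫ _ = (g ≫ sw x₀ x₁ h v) ≫ _
          rw [hsw₂, Category.assoc, hsw₂, hv', Category.assoc]
      φ_self := fun T x v => hext _ _ (hsw₂ _ _ _ _)
      φ_comp := fun T x₀ x₁ x₂ h₀₁ h₁₂ v =>
        hext _ _ (((hsw₂ _ _ _ _).trans (hsw₂ _ _ _ _)).trans (hsw₂ _ _ _ _).symm) }
  haveI : IsAffineHom D.obj.hom := MultEq.isAffineHom_of_isMultTypeFT (RedRank.isMultTypeFT_of_isTorus hT'.2.2.1)
  obtain ⟨U, ⟨e⟩⟩ := DescLib.effective_of_isAffineHom (p := π) D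
  let el : pullback π U.hom ⟶ H'.left := e.hom.hom.left
  let e' : pullback π U.hom ≅ H'.left := ⟨el, e.inv.hom.left,
    congrArg (fun z => z.hom.left) e.hom_inv_id, congrArg (fun z => z.hom.left) e.inv_hom_id⟩
  have hel : el ≫ H'.hom = pullback.fst π U.hom := Over.w e.hom.hom
  let θ : Red.bc π U ≅ H' := Over.isoMk (pullbackSymmetry U.hom π ≪≫ e') (by
    show ((pullbackSymmetry U.hom π).hom ≫ el) ≫ H'.hom = pullback.snd U.hom π
    rw [Category.assoc, hel, pullbackSymmetry_hom_comp_fst])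
  let a : pullback U.hom π ⟶ H'.left := θ.hom.left
  have ha : a = (pullbackSymmetry U.hom π).hom ≫ el := rfl
  have haH : a ≫ H'.hom = pullback.snd U.hom π := Over.w θ.hom
  let f : pullback U.hom π ⟶ G.left := a ≫ j'.left ≫ pullback.fst G.hom π
  let p₁ : pullback U.hom π ⟶ U.left := pullback.fst U.hom π
  haveI : EffectiveEpi p₁ := DescHom.effectiveEpi_pullback_fst π hcov U.hom
  have hf : ∀ {Z : Scheme.{u}} (g₁ g₂ : Z ⟶ pullback U.hom π), g₁ ≫ p₁ = g₂ ≫ p₁ → g₁ ≫ f = g₂ ≫ f := by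
    intro Z g₁ g₂ hg
    let s := (pullbackSymmetry U.hom π).hom
    let x₁ := g₁ ≫ pullback.snd U.hom π
    let x₂ := g₂ ≫ pullback.snd U.hom π
    have hx : x₁ ≫ π = x₂ ≫ π := by
      have := congrArg (· ≫ U.hom) hg
      simp only [p₁, Category.assoc, pullback.condition] at this
      simpa only [x₁, x₂, Category.assoc] using this
    let v : Desc.Lifts ((Desc.toDD π).obj U).obj x₁ := ⟨g₁ ≫ s, by
      show (g₁ ≫ s) ≫ pullback.fst π U.hom = x₁
      rw [Category.assoc, pullbackSymmetry_hom_comp_fst]⟩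
    let w : Desc.Lifts D.obj x₁ := ⟨g₁ ≫ a, by
      show (g₁ ≫ a) ≫ H'.hom = x₁
      rw [Category.assoc, haH]⟩
    have h1 : sw x₁ x₂ hx w = (((Desc.toDD π).obj U).φ x₁ x₂ hx v).1 ≫ el :=
      e.hom.comm x₁ x₂ hx v w (by show g₁ ≫ a = (g₁ ≫ s) ≫ el; rw [ha, Category.assoc])
    have h2 : (((Desc.toDD π).obj U).φ x₁ x₂ hx v).1 = g₂ ≫ s := by
      refine pullback.hom_ext ?_ ?_
      · refine (pullback.lift_fst _ _ _).trans ?_
        rw [Category.assoc, pullbackSymmetry_hom_comp_fst]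
      · refine (pullback.lift_snd _ _ _).trans ?_
        show (g₁ ≫ s) ≫ pullback.snd π U.hom = _
        rw [Category.assoc, Category.assoc, pullbackSymmetry_hom_comp_snd]
        exact hg
    have h3 := hsw₂ x₁ x₂ hx w
    rw [h1, h2] at h3
    show g₁ ≫ a ≫ _ = g₂ ≫ a ≫ _
    rw [← Category.assoc g₁, ← h3, ha, Category.assoc, Category.assoc, Category.assoc]
  let jl : U.left ⟶ G.left := EffectiveEpi.desc p₁ f hf
  have hjl : p₁ ≫ jl = f := EffectiveEpi.fac p₁ f hf
  have hwj : p₁ ≫ jl ≫ G.hom = p₁ ≫ U.hom := by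
    rw [← Category.assoc, hjl, Category.assoc, Category.assoc]
    show a ≫ j'.left ≫ pullback.fst G.hom π ≫ G.hom = pullback.fst U.hom π ≫ U.hom
    rw [pullback.condition, pullback.condition]
    have e₁ : j'.left ≫ pullback.snd G.hom π = H'.hom := Over.w j'
    rw [reassoc_of% e₁, reassoc_of% haH]
  let j : U ⟶ G := Over.homMk jl ((cancel_epi p₁).1 hwj)
  have hθ : θ.hom ≫ j' = (Over.pullback π).map j := by
    refine Over.OverMorphism.ext (pullback.hom_ext ?_ ?_)
    · rw [ActBC.pullback_map_left_fst, Over.comp_left, Category.assoc]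
      exact hjl.symm
    · exact (Over.w (θ.hom ≫ j')).trans (Over.w ((Over.pullback π).map j)).symm
  exact ⟨U, j, θ, hθ⟩

/-- Base change along the covering is faithful. -/
theorem map_injective
    (hcov : ∀ V : S.Opens, IsAffineOpen V → ∃ W : S'.Opens, IsCompact (W : Set S') ∧ π.base '' (W : Set S') = (V : Set S))
    {A B : Over S} {a b : A ⟶ B} (h : (Over.pullback π).map a = (Over.pullback π).map b) : a = b := by
  haveI : EffectiveEpi (pullback.fst A.hom π) := DescHom.effectiveEpi_pullback_fst π hcov A.hom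
  refine Over.OverMorphism.ext ((cancel_epi (pullback.fst A.hom π)).1 ?_)
  rw [← ActBC.pullback_map_left_fst, ← ActBC.pullback_map_left_fst, h]

/-- Factoring through a monomorphism descends. -/
theorem factor
    (hcov : ∀ V : S.Opens, IsAffineOpen V → ∃ W : S'.Opens, IsCompact (W : Set S') ∧ π.base '' (W : Set S') = (V : Set S))
    {U G Y : Over S} (j : U ⟶ G) [Mono j] (y : Y ⟶ G) (v : Red.bc π Y ⟶ Red.bc π U)
    (hv : v ≫ (Over.pullback π).map j = (Over.pullback π).map y) : ∃ h : Y ⟶ U, h ≫ j = y := by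
  let p : pullback Y.hom π ⟶ Y.left := pullback.fst Y.hom π
  haveI : EffectiveEpi p := DescHom.effectiveEpi_pullback_fst π hcov Y.hom
  let m : pullback Y.hom π ⟶ U.left := v.left ≫ pullback.fst U.hom π
  have hmj : m ≫ j.left = p ≫ y.left := by
    rw [Category.assoc, ← ActBC.pullback_map_left_fst π j, ← Category.assoc]
    exact (congrArg (fun w => w.left ≫ pullback.fst G.hom π) hv).trans (ActBC.pullback_map_left_fst π y)
  have hmU : m ≫ U.hom = p ≫ Y.hom := by
    rw [← Over.w j, ← Category.assoc, hmj, Category.assoc, Over.w y]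
  have hf : ∀ {Z : Scheme.{u}} (g₁ g₂ : Z ⟶ pullback Y.hom π), g₁ ≫ p = g₂ ≫ p → g₁ ≫ m = g₂ ≫ m := by
    intro Z g₁ g₂ hg
    haveI : Mono j.left := inferInstanceAs (Mono ((Over.forget _).map j))
    refine (cancel_mono j.left).1 ?_
    exact (Category.assoc _ _ _).trans (((congrArg (g₁ ≫ ·) hmj).trans (((Category.assoc _ _ _).symm.trans
      ((congrArg (· ≫ y.left) hg).trans (Category.assoc _ _ _))).trans (congrArg (g₂ ≫ ·) hmj).symm)).trans (Category.assoc _ _ _).symm)
  let h := EffectiveEpi.desc p m hf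
  have hh : p ≫ h = m := EffectiveEpi.fac p m hf
  refine ⟨Over.homMk h ((cancel_epi p).1 (by rw [reassoc_of% hh, hmU])), Over.OverMorphism.ext ?_⟩
  exact (cancel_epi p).1 (show p ≫ h ≫ j.left = p ≫ y.left by rw [reassoc_of% hh, hmj])

end Groth.Agent.CentMaxTor

end
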