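import Groth.Agent.EqNhdLib.Main
import Groth.Agent.MultEqLib.Global
import Groth.Agent.DescHomLib.MultBC
import Groth.Agent.PowEtCentralLib.Split
import Groth.Agent.QuotRepLib.Saturate
import Mathlib.AlgebraicGeometry.Morphisms.FlatMono

/-!
Factorization of a homomorphism from a group of multiplicative type through a central one, from the fibres.
-/

set_option autoImplicit false
set_option linter.style.haveILetI false
set_option backward.isDefEq.respectTransparency false
set_option maxHeartbeats 1000000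
set_option synthInstance.maxHeartbeats 200000

noncomputable section

universe u

open CategoryTheory CategoryTheory.Limits MonoidalCategory CartesianMonoidalCategory AlgebraicGeometry CoactBr
open scoped MonObj TensorProduct

attribute [-instance] CategoryTheory.Hom.commGroup

namespace Groth.Agent.CentMaxTor

open Groth.Agent.FreeAct (DA chr)
open Groth.Agent.MonoLocus (hpt hpt_surjective)
open Groth.Agent.MultEq (LE pob pr₁ pr₂ gHom dHom comp_dHom hpt_gHom diffR diffL Diff)

attribute [local instance] CoactBr.braidedAlgSpecOf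

/-- The trivial group is of multiplicative type. -/
theorem isMultTypeFT_unit (T : Scheme.{u}) : SGA3x.IsMultTypeFT (𝟙_ (Over T)) := by
  refine PowEtCentralLib.isMultTypeFT_of_local _ fun s => ⟨T, 𝟙 T, PUnit, inferInstance, inferInstance, inferInstance,
    ⟨s, rfl⟩, inferInstance, ?_⟩
  have hdiag : IsIso (Red.diag (ULift.{u} ℤ) PUnit).hom := by
    show IsIso (Spec.map (CommRingCat.ofHom (algebraMap (ULift.{u} ℤ) (MonoidAlgebra (ULift.{u} ℤ) (Multiplicative PUnit)))))
    haveI : IsIso (CommRingCat.ofHom (algebraMap (ULift.{u} ℤ) (MonoidAlgebra (ULift.{u} ℤ) (Multiplicative PUnit)))) := by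
      refine (ConcreteCategory.isIso_iff_bijective _).2 ⟨fun a b h => ?_, fun x => ⟨x.coeff 1, ?_⟩⟩ <;>
        simp only [CommRingCat.hom_ofHom, MonoidAlgebra.coe_algebraMap, Function.comp_apply, Algebra.algebraMap_self, RingHom.id_apply] at *
      · exact MonoidAlgebra.single_right_injective h
      · refine MonoidAlgebra.coeff_injective (Finsupp.ext fun a => ?_)
        obtain rfl : a = 1 := Subsingleton.elim _ _
        simp
    infer_instance
  haveI := hdiag
  haveI : IsIso (Red.DS T PUnit).hom := inferInstanceAs (IsIso (pullback.snd (Red.diag (ULift.{u} ℤ) PUnit).hom _))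
  haveI : IsIso (toUnit (Red.DS T PUnit)) := by
    haveI : IsIso ((Over.forget _).map (toUnit (Red.DS T PUnit))) := by
      show IsIso (toUnit (Red.DS T PUnit)).left
      rw [Over.toUnit_left]
      infer_instance
    exact isIso_of_reflects_iso _ (Over.forget _)
  haveI : IsIso (toUnit (Red.bc (𝟙 T) (𝟙_ (Over T)))) := by
    haveI : IsIso ((Over.forget _).map (toUnit (Red.bc (𝟙 T) (𝟙_ (Over T))))) := by
      show IsIso (toUnit (Red.bc (𝟙 T) (𝟙_ (Over T)))).left
      rw [Over.toUnit_left]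
      exact inferInstanceAs (IsIso (pullback.snd (𝟙 T) (𝟙 T)))
    exact isIso_of_reflects_iso _ (Over.forget _)
  refine ⟨asIso (toUnit (Red.bc (𝟙 T) (𝟙_ (Over T)))) ≪≫ (asIso (toUnit (Red.DS T PUnit))).symm, ?_⟩
  haveI : IsMonHom (asIso (toUnit (Red.DS T PUnit))).hom := inferInstanceAs (IsMonHom (toUnit _))
  show IsMonHom (toUnit _ ≫ (asIso (toUnit (Red.DS T PUnit))).inv)
  infer_instance

/-- A monomorphism of finite presentation through which a flat surjection factors is an isomorphism. -/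
theorem isIso_of_factor_mono {P Q Y : Scheme.{u}} (p : P ⟶ Y) [Mono p] [LocallyOfFinitePresentation p] (q : Q ⟶ Y)
    [Flat q] [Surjective q] (s : Q ⟶ P) (hs : s ≫ p = q) : IsIso p := by
  haveI : IsSplitEpi (pullback.snd p q) := IsSplitEpi.mk' ⟨pullback.lift s (𝟙 Q) (by rw [hs, Category.id_comp]),
    pullback.lift_snd _ _ _⟩
  haveI : IsIso (pullback.snd p q) := isIso_of_mono_of_isSplitEpi _
  haveI : Flat (pullback.fst p q ≫ p) := by rw [pullback.condition]; infer_instance
  haveI : Surjective (pullback.fst p q) := inferInstance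
  haveI : Flat p := QuotRep.flat_of_comp_surjective (pullback.fst p q) p
  haveI : Surjective p := ⟨fun y => by
    obtain ⟨x, rfl⟩ := q.surjective y
    exact ⟨s x, by rw [← hs]; rfl⟩⟩
  haveI := IsOpenImmersion.of_flat_of_mono p
  haveI : Epi p.base := (TopCat.epi_iff_surjective _).2 p.surjective
  exact IsOpenImmersion.isIso p

variable {S : Scheme.{u}} {G H H' : Over S} {i : H ⟶ G} {i' : H' ⟶ G}

/-- Inclusion in a monomorphism descends along jointly surjective families of flat morphisms. -/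
theorem le_of_family [Mono i'] [LocallyOfFinitePresentation H'.hom] [LocallyOfFinitePresentation G.hom]
    {T : Scheme.{u}} {κ : T ⟶ S} {I : Type u} {T' : I → Scheme.{u}} (g : ∀ j, T' j ⟶ T) (hflat : ∀ j, Flat (g j))
    (hsurj : ∀ t : T, ∃ j, t ∈ Set.range (g j)) (h : ∀ j, LE i i' (g j ≫ κ)) : LE i i' κ := by
  haveI : LocallyOfFinitePresentation i'.left := by
    haveI : LocallyOfFinitePresentation (i'.left ≫ G.hom) := by rw [Over.w]; infer_instance
    exact AlgSpLib.lfp_of_comp_lft _ G.hom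
  intro Y q hq y
  let P : I → Scheme.{u} := fun j => pullback q (g j)
  let π : (∐ P) ⟶ Y.left := Sigma.desc fun j => pullback.fst q (g j)
  haveI : Flat π := IsZariskiLocalAtSource.sigmaDesc fun j => by
    haveI := hflat j
    infer_instance
  haveI : Surjective π := ⟨fun a => by
    obtain ⟨j, b, hb⟩ := hsurj (q a)
    obtain ⟨w, hw, -⟩ := Scheme.Pullback.exists_preimage_pullback (f := q) (g := g j) a b hb.symm
    refine ⟨Sigma.ι P j w, ?_⟩
    rw [← Scheme.Hom.comp_apply, Sigma.ι_desc]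
    exact hw⟩
  let Q := pullback i'.left (y ≫ i).left
  let z : Q ⟶ Y.left := pullback.snd _ _
  haveI : Mono i'.left := inferInstanceAs (Mono ((Over.forget _).map i'))
  have hs : ∀ j, ∃ s : P j ⟶ Q, s ≫ z = pullback.fst q (g j) := by
    intro j
    let Y' : Over S := Over.mk (pullback.fst q (g j) ≫ Y.hom)
    let e : Y' ⟶ Y := Over.homMk (pullback.fst _ _)
    obtain ⟨h', hh'⟩ := h j Y' (pullback.snd _ _) (by
      show pullback.snd _ _ ≫ g j ≫ κ = pullback.fst _ _ ≫ Y.hom
      rw [← pullback.condition_assoc, hq]) (e ≫ y)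
    refine ⟨pullback.lift h'.left (pullback.fst q (g j)) ?_, pullback.lift_snd _ _ _⟩
    rw [Category.assoc] at hh'
    exact congrArg CommaMorphism.left hh'
  choose s hs using hs
  haveI : IsIso z := isIso_of_factor_mono z π (Sigma.desc s) (Sigma.hom_ext _ _ fun j => by
    rw [Sigma.ι_desc_assoc, hs, Sigma.ι_desc])
  have hc : (inv z ≫ pullback.fst i'.left (y ≫ i).left) ≫ i'.left = (y ≫ i).left := by
    rw [Category.assoc, pullback.condition, show pullback.snd i'.left (y ≫ i).left = z from rfl,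
      IsIso.inv_hom_id_assoc]
  refine ⟨Over.homMk (inv z ≫ pullback.fst _ _) ?_, Over.OverMorphism.ext hc⟩
  exact ((congrArg (_ ≫ ·) (Over.w i')).symm.trans (Category.assoc _ _ _).symm).trans
    ((congrArg (· ≫ G.hom) hc).trans (Over.w _))

variable [GrpObj G] [GrpObj H] [GrpObj H'] [IsMonHom i] [IsMonHom i'] [Mono i']
  [LocallyOfFinitePresentation G.hom]

/-- On a split piece, near a point where the first homomorphism factors through the second, it factors. -/
theorem exists_nhd_piece (hH : SGA3x.IsMultTypeFT H) (Δ : Diff i i')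
    (hΔ : Δ.hom = (snd H H' ≫ i') * (fst H H' ≫ i)⁻¹ ∧ MultLift.Central i ∨
      Δ.hom = (fst H H' ≫ i) * (snd H H' ≫ i')⁻¹ ∧ MultLift.Central i')
    {R : Type u} [CommRing R] {M M' : Type} [AddCommGroup M] [AddCommGroup M'] (p : Spec (CommRingCat.of R) ⟶ S)
    (w : sp R (DA R M) ≅ Red.bc p H) (w' : sp R (DA R M') ≅ Red.bc p H') [IsMonHom w.hom] [IsMonHom w'.hom]
    (t : Spec (CommRingCat.of R)) (ht : LE i i' (S.fromSpecResidueField (p t))) :
    ∃ O : (Spec (CommRingCat.of R)).Opens, t ∈ O ∧ LE i i' (O.ι ≫ p) := by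
  let adj := Over.mapPullbackAdj p
  let q : PrimeSpectrum R := t
  let F := q.asIdeal.ResidueField
  let κ : Spec (CommRingCat.of F) ⟶ Spec (CommRingCat.of R) := Spec.map (CommRingCat.ofHom (algebraMap R F))
  have hκ : κ (IsLocalRing.closedPoint F) = t := by
    refine PrimeSpectrum.ext ?_
    show Ideal.comap (algebraMap R F) (IsLocalRing.maximalIdeal F) = q.asIdeal
    rw [IsLocalRing.isField_iff_maximalIdeal_eq.1 (Field.toIsField F)]
    exact Ideal.ker_algebraMap_residueField _
  have hle : LE i i' (κ ≫ p) := by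
    let d := Spec.map (S.descResidueField (Scheme.stalkClosedPointTo (κ ≫ p)))
    have hd : d ≫ S.fromSpecResidueField _ = κ ≫ p :=
      Scheme.descResidueField_stalkClosedPointTo_fromSpecResidueField F S (κ ≫ p)
    have hpt : (κ ≫ p) (IsLocalRing.closedPoint F) = p t := by rw [Scheme.Hom.comp_apply, hκ]
    have h2 : LE i i' (S.fromSpecResidueField ((κ ≫ p) (IsLocalRing.closedPoint F))) := hpt.symm ▸ ht
    exact hd ▸ h2.comp d
  obtain ⟨φ, hφ⟩ := MultEq.exists_charMap p w w' (algebraMap R F) hle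
  let d := dHom p w w' Δ φ
  haveI : IsMonHom d := MultEq.isMonHom_dHom p w w' Δ hΔ φ
  haveI : LocallyOfFinitePresentation (Red.bc p G).hom :=
    inferInstanceAs (LocallyOfFinitePresentation (pullback.snd G.hom p))
  let d' : Red.bc p H ⟶ Red.bc p G := d
  haveI : IsImmersion (η[Red.bc p G] : 𝟙_ (Over (Spec (CommRingCat.of R))) ⟶ Red.bc p G).left :=
    EqNhd.isImmersion_eta
  have hLE : ∀ {U : Scheme.{u}} (u : U ⟶ Spec (CommRingCat.of R)),
      LE d' (η[Red.bc p G]) u ↔ ∀ (Y : Over (Spec (CommRingCat.of R))) (g : Y.left ⟶ U), g ≫ u = Y.hom →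
        ∀ h : Y ⟶ Red.bc p H, h ≫ d' = 1 := fun u => by
    refine ⟨fun h Y g hg y => ?_, fun h Y g hg y => ⟨toUnit Y, (h Y g hg y).symm⟩⟩
    obtain ⟨h', hh'⟩ := h Y g hg y
    rw [← hh', toUnit_unique h' (toUnit Y), Hom.one_def]
  have h1 : LE d' (η[Red.bc p G]) κ := (hLE κ).2 fun Y g hg h => by
    refine Over.OverMorphism.ext (Y.left.affineOpenCover.openCover.hom_ext _ _ fun j => ?_)
    let A : Type u := Y.left.affineOpenCover.X j
    let f : Spec (CommRingCat.of A) ⟶ Y.left := Y.left.affineOpenCover.f j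
    obtain ⟨a, ha⟩ := Spec.map_surjective (f ≫ g)
    letI : Algebra R A := (a.hom.comp (algebraMap R F)).toAlgebra
    let e : sp R A ⟶ Y := Over.homMk f (by
      show f ≫ Y.hom = Spec.map (CommRingCat.ofHom (a.hom.comp (algebraMap R F)))
      rw [← hg, ← Category.assoc, ← ha, CommRingCat.ofHom_comp, Spec.map_comp]
      simp [κ])
    have h1 : e ≫ h ≫ d = 1 := by
      rw [← Category.assoc, comp_dHom]
      obtain ⟨χ, hχ⟩ := hpt_surjective p w ((adj.homEquiv (sp R A) H).symm (e ≫ h))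
      have he : e ≫ h = adj.homEquiv (sp R A) H (hpt p w χ) := by
        rw [← hχ, Equiv.apply_symm_apply]
      rw [he, ← Category.assoc, hpt_gHom, ← adj.homEquiv_naturality_right, hφ A a.hom rfl χ,
        adj.homEquiv_naturality_right]
    rw [← MonObj.comp_one e] at h1
    exact congrArg CommaMorphism.left h1
  have h2 : LE d' (η[Red.bc p G]) ((Spec (CommRingCat.of R)).fromSpecResidueField t) := by
    rw [← hκ]
    exact (MultEq.le_field_iff κ).1 h1
  have hc : CentLocus.CentAt d' ((Spec (CommRingCat.of R)).fromSpecResidueField t) :=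
    (CentLocus.centAt_iff _ _).2 fun Y g hg a h => by rw [(hLE _).1 h2 Y g hg h, one_mul, mul_one]
  obtain ⟨O, htO, hO⟩ := EqNhd.exists_nhd_le (Or.inr inferInstance) (DescHom.isMultTypeFT_bc hH p)
    (isMultTypeFT_unit _) t h2 hc
  refine ⟨O, htO, fun Y g hg h => ?_⟩
  let Y' : Over (Spec (CommRingCat.of R)) := Over.mk (g ≫ O.ι)
  let ε : (Over.map p).obj Y' ⟶ Y := Over.homMk (𝟙 Y.left) (by
    show 𝟙 Y.left ≫ Y.hom = (g ≫ O.ι) ≫ p
    rw [Category.id_comp, Category.assoc, hg])
  haveI : IsIso ((Over.forget S).map ε) := inferInstanceAs (IsIso (𝟙 Y.left))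
  haveI : IsIso ε := isIso_of_reflects_iso ε (Over.forget S)
  have h3 := (comp_dHom p w w' Δ φ _).1 ((hLE _).1 hO Y' g rfl (adj.homEquiv Y' H (ε ≫ h)))
  refine ⟨inv ε ≫ (adj.homEquiv Y' H').symm (adj.homEquiv Y' H (ε ≫ h) ≫ gHom p w w' φ), ?_⟩
  rw [Category.assoc, IsIso.inv_comp_eq, ← Category.assoc]
  refine (adj.homEquiv Y' G).injective ?_
  rw [adj.homEquiv_naturality_right _ i', adj.homEquiv_naturality_right (ε ≫ h) i, Equiv.apply_symm_apply,
    Category.assoc]
  exact h3

/-- A homomorphism from a group of multiplicative type which factors on all fibres through another one, one of the two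
being central, factors. -/
theorem exists_factor_of_fibres (hH : SGA3x.IsMultTypeFT H) (hH' : SGA3x.IsMultTypeFT H')
    (hc : MultLift.Central i ∨ MultLift.Central i') (hfib : ∀ s : S, LE i i' (S.fromSpecResidueField s)) :
    ∃ h : H ⟶ H', h ≫ i' = i := by
  haveI := MultEq.lfp_of_isMultTypeFT hH'
  obtain ⟨Δ, hΔ⟩ : ∃ Δ : Diff i i', (Δ.hom = (snd H H' ≫ i') * (fst H H' ≫ i)⁻¹ ∧ MultLift.Central i ∨
      Δ.hom = (fst H H' ≫ i) * (snd H H' ≫ i')⁻¹ ∧ MultLift.Central i') := by
    rcases hc with h | h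
    · exact ⟨diffR i i', Or.inl ⟨rfl, h⟩⟩
    · exact ⟨diffL i i', Or.inr ⟨rfl, h⟩⟩
  obtain ⟨S₁, f₁, hflat₁, hsurj₁, hcov₁, hloc₁⟩ := id hH
  obtain ⟨S₂, f₂, hflat₂, hsurj₂, hcov₂, hloc₂⟩ := id hH'
  haveI := hflat₁
  haveI := hsurj₁
  haveI := hflat₂
  haveI := hsurj₂
  let f := pullback.fst f₁ f₂ ≫ f₁
  haveI : Flat f := by show Flat (pullback.fst f₁ f₂ ≫ f₁); infer_instance
  have hpiece : ∀ x : ↥(pullback f₁ f₂), ∃ (P : Scheme.{u}) (g : P ⟶ S), Flat g ∧ f x ∈ Set.range g ∧ LE i i' g := by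
    intro x
    obtain ⟨U₁, hxU₁, M, _, _, ⟨e₁⟩⟩ := hloc₁ (pullback.fst f₁ f₂ x)
    obtain ⟨U₂, hxU₂, M', _, _, ⟨e₂⟩⟩ := hloc₂ (pullback.snd f₁ f₂ x)
    obtain ⟨T, hT, hxT, hTU⟩ := exists_isAffineOpen_mem_and_subset (X := pullback f₁ f₂) (x := x)
      (U := pullback.fst f₁ f₂ ⁻¹ᵁ U₁ ⊓ pullback.snd f₁ f₂ ⁻¹ᵁ U₂) ⟨hxU₁, hxU₂⟩
    haveI : IsAffine (T : Scheme.{u}) := hT
    let j : Spec (CommRingCat.of Γ((T : Scheme.{u}), ⊤)) ⟶ (T : Scheme.{u}) := (T : Scheme.{u}).isoSpec.inv
    let p := j ≫ T.ι ≫ f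
    obtain ⟨w, hw⟩ := MultLift.exists_split_iso e₁
      (j ≫ (pullback.fst f₁ f₂).resLE U₁ T (hTU.trans inf_le_left)) p (by
        rw [Category.assoc, Scheme.Hom.resLE_comp_ι_assoc])
    obtain ⟨w', hw'⟩ := MultLift.exists_split_iso e₂
      (j ≫ (pullback.snd f₁ f₂).resLE U₂ T (hTU.trans inf_le_right)) p (by
        rw [Category.assoc, Scheme.Hom.resLE_comp_ι_assoc, ← pullback.condition])
    haveI := hw
    haveI := hw'
    obtain ⟨a, ha⟩ := (T : Scheme.{u}).isoSpec.inv.surjective ⟨x, hxT⟩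
    obtain ⟨O, haO, hO⟩ := exists_nhd_piece hH Δ hΔ p w w' a (hfib _)
    haveI : Flat p := by show Flat (j ≫ T.ι ≫ f); infer_instance
    refine ⟨O, O.ι ≫ p, inferInstance, ⟨(⟨a, haO⟩ : (O : Scheme.{u})), ?_⟩, hO⟩
    show f (T.ι (j a)) = f x
    exact congrArg (fun b => f (T.ι b)) ha
  choose P g hg hmem hle using hpiece
  have hS : LE i i' (𝟙 S) := le_of_family g hg (fun s => by
    obtain ⟨x, rfl⟩ := (pullback.fst f₁ f₂ ≫ f₁).surjective s
    exact ⟨x, hmem x⟩) fun x => by rw [Category.comp_id]; exact hle x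
  obtain ⟨h', hh'⟩ := hS H H.hom (Category.comp_id _) (𝟙 H)
  exact ⟨h', hh'.trans (Category.id_comp i)⟩

end Groth.Agent.CentMaxTor

end
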