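import Groth.Agent.MaxTorFieldLib.Comm
import Groth.Agent.MaxTorConjLib.MaxBC
import Groth.Agent.GrpHomLib.Image
import Groth.Agent.MiscFlat6.EqualizerDom
import Groth.Agent.DenseSubLib.Basic
import Groth.Agent.EqNhdLib.Main

/-!
A central maximal torus over an algebraically closed field contains every torus, also after extending the field.
-/

set_option autoImplicit false
set_option linter.style.haveILetI false
set_option backward.isDefEq.respectTransparency false
set_option maxHeartbeats 1000000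
set_option synthInstance.maxHeartbeats 200000

noncomputable section

universe u

open CategoryTheory CategoryTheory.Limits MonoidalCategory CartesianMonoidalCategory AlgebraicGeometry
open scoped MonObj

attribute [-instance] CategoryTheory.Hom.commGroup

namespace Groth.Agent.CentMaxTor

variable {K : Type u} [Field K] [IsAlgClosed K]

/-- In a smooth group over an algebraically closed field a maximal torus contains every torus commuting with it. -/
theorem exists_factor_commuting {C T R : Over (Spec (CommRingCat.of K))} [GrpObj C] [GrpObj T] [GrpObj R]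
    [Smooth C.hom] [QuasiCompact C.hom] {i : T ⟶ C} (hT : AGF.IsMaxTorus i) (v : R ⟶ C)
    [IsMonHom v] (hR : Red.IsTorus R)
    (hc : ∀ (X : Over (Spec (CommRingCat.of K))) (b : X ⟶ R) (a : X ⟶ T), (b ≫ v) * (a ≫ i) = (a ≫ i) * (b ≫ v)) :
    ∃ f : R ⟶ T, f ≫ i = v := by
  obtain ⟨hi, hm, hTt, hmax⟩ := hT
  haveI := hi; haveI := hm
  haveI : IsSeparated C.hom := Groth.Agent.GrpField.isSeparated_grp (G := C)
  haveI : Smooth T.hom := MaxTorConj.smooth_of_isTorus hTt
  haveI : Smooth R.hom := MaxTorConj.smooth_of_isTorus hR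
  haveI : IsAffineHom T.hom := MultEq.isAffineHom_of_isMultTypeFT (RedRank.isMultTypeFT_of_isTorus hTt)
  haveI : IsAffineHom R.hom := MultEq.isAffineHom_of_isMultTypeFT (RedRank.isMultTypeFT_of_isTorus hR)
  let m : R ⊗ T ⟶ C := (fst R T ≫ v) * (snd R T ≫ i)
  haveI : IsMonHom m := RedRank.isMonHom_of_mul _ fun Z a b => by
    show (a * b) ≫ ((fst R T ≫ v) * (snd R T ≫ i)) = (a ≫ ((fst R T ≫ v) * (snd R T ≫ i))) * (b ≫ ((fst R T ≫ v) * (snd R T ≫ i)))
    simp only [MonObj.comp_mul, ← Category.assoc, MonObj.mul_comp]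
    rw [mul_assoc, ← mul_assoc ((b ≫ fst R T) ≫ v), hc Z (b ≫ fst R T) (a ≫ snd R T)]
    simp only [mul_assoc]
  haveI : QuasiCompact (R ⊗ T).hom := inferInstanceAs (QuasiCompact (pullback.fst R.hom T.hom ≫ R.hom))
  haveI : QuasiCompact m.left := by
    haveI : QuasiCompact (m.left ≫ C.hom) := by rw [Over.w]; infer_instance
    exact QuasiCompact.of_comp m.left C.hom
  obtain ⟨D, _, d, p, hd, hp, hpd, hdc, hpdom, hpqc, -⟩ := GrpHom.exists_image m
  haveI := hd; haveI := hp; haveI := hdc; haveI := hpdom; haveI := hpqc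
  haveI : Mono d := Over.mono_of_mono_left d
  haveI : LocallyOfFiniteType D.hom := by rw [← Over.w d]; infer_instance
  haveI : QuasiCompact D.hom := by rw [← Over.w d]; infer_instance
  haveI : IsSeparated D.hom := by rw [← Over.w d]; infer_instance
  haveI : IsCommMonObj D := by
    have h : fst D D * snd D D = snd D D * fst D D := by
      haveI := GrpHom.dominant_tensorHom p
      refine Over.OverMorphism.ext (MiscFlat6.ext_of_isSchemeTheoreticallyDominant (p ⊗ₘ p).left D.hom _ _
        ((Over.w _).trans (Over.w _).symm) ?_)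
      rw [← Over.comp_left, ← Over.comp_left]
      refine congrArg CommaMorphism.left ?_
      rw [MonObj.comp_mul, MonObj.comp_mul, tensorHom_fst, tensorHom_snd, ← MonObj.mul_comp, ← MonObj.mul_comp]
      refine congrArg (· ≫ p) (CartesianMonoidalCategory.hom_ext _ _ ?_ ?_)
      · rw [MonObj.mul_comp, MonObj.mul_comp, RCentre.commute_torus hR]
      · rw [MonObj.mul_comp, MonObj.mul_comp, RCentre.commute_torus hTt]
    refine (isCommMonObj_iff_isMulCommutative _).2 fun X => ⟨⟨fun a b => ?_⟩⟩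
    have := congrArg (fun w => lift a b ≫ w) h
    simpa [MonObj.comp_mul] using this
  obtain ⟨T₀, _, t₀, ht₀, ht₀m, hT₀, huniv⟩ := MaxTorField.exists_greatest_qc D
  haveI := ht₀; haveI := ht₀m
  have hfac : ∀ (X : Over (Spec (CommRingCat.of K))) [GrpObj X] (w : X ⟶ D) [IsMonHom w], Red.IsTorus X →
      ∃ y : X ⟶ T₀, y ≫ t₀ = w := by
    intro X _ w _ hX
    let bX := asIso (BorelLib.bcIdHom X)
    haveI : IsMonHom bX.hom := BorelLib.isMonHom_bcIdHom X
    haveI := DiagRep.isMonHom_bc_map (𝟙 (Spec (CommRingCat.of K))) w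
    obtain ⟨z, hz⟩ := huniv K (𝟙 _) (Red.bc (𝟙 _) X) ((Over.pullback (𝟙 _)).map w) (RedRank.isTorus_bc hX _)
    refine ⟨bX.inv ≫ z ≫ BorelLib.bcIdHom T₀, ?_⟩
    have e1 := BorelLib.bcIdHom_naturality D t₀
    have e2 := BorelLib.bcIdHom_naturality D w
    have e1' : BorelLib.bcIdHom T₀ ≫ t₀ = (Over.pullback (𝟙 _)).map t₀ ≫ BorelLib.bcIdHom D := e1.symm
    have e2' : (Over.pullback (𝟙 _)).map w ≫ BorelLib.bcIdHom D = BorelLib.bcIdHom X ≫ w := e2
    rw [Category.assoc, Category.assoc, e1', reassoc_of% hz]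
    exact (congrArg (bX.inv ≫ ·) e2').trans (IsIso.inv_hom_id_assoc _ _)
  have hoT : lift (1 : T ⟶ R) (𝟙 T) ≫ p ≫ d = i := by
    rw [hpd, MonObj.comp_mul, lift_fst_assoc, lift_snd_assoc, MonObj.one_comp, one_mul, Category.id_comp]
  have hoR : lift (𝟙 R) (1 : R ⟶ T) ≫ p ≫ d = v := by
    rw [hpd, MonObj.comp_mul, lift_fst_assoc, lift_snd_assoc, MonObj.one_comp, mul_one, Category.id_comp]
  haveI : IsMonHom ((lift (1 : T ⟶ R) (𝟙 T) ≫ p) ≫ d) := by rw [Category.assoc, hoT]; infer_instance
  haveI : IsMonHom (lift (1 : T ⟶ R) (𝟙 T) ≫ p) := DiagRep.isMonHom_of_comp_mono _ d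
  haveI : IsMonHom ((lift (𝟙 R) (1 : R ⟶ T) ≫ p) ≫ d) := by rw [Category.assoc, hoR]; infer_instance
  haveI : IsMonHom (lift (𝟙 R) (1 : R ⟶ T) ≫ p) := DiagRep.isMonHom_of_comp_mono _ d
  obtain ⟨yT, hyT⟩ := hfac T (lift (1 : T ⟶ R) (𝟙 T) ≫ p) hTt
  obtain ⟨yR, hyR⟩ := hfac R (lift (𝟙 R) (1 : R ⟶ T) ≫ p) hR
  have e : yT ≫ t₀ ≫ d = i := by rw [← Category.assoc, hyT, Category.assoc, hoT]
  haveI := hmax T₀ (t₀ ≫ d) yT hT₀ e
  refine ⟨yR ≫ inv yT, ?_⟩
  rw [← e, Category.assoc, IsIso.inv_hom_id_assoc, ← Category.assoc, hyR, Category.assoc, hoR]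

/-- In a smooth group over an algebraically closed field a central maximal torus contains every torus. -/
theorem exists_factor_smooth {C T R : Over (Spec (CommRingCat.of K))} [GrpObj C] [GrpObj T] [GrpObj R]
    [Smooth C.hom] [QuasiCompact C.hom] {i : T ⟶ C} (hT : AGF.IsMaxTorus i) (hc : MultLift.Central i) (v : R ⟶ C)
    [IsMonHom v] (hR : Red.IsTorus R) : ∃ f : R ⟶ T, f ≫ i = v :=
  exists_factor_commuting hT v hR fun X b a => hc X (b ≫ v) a

/-- A central maximal torus over an algebraically closed field contains every torus after any extension of the field. -/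
theorem exists_factor_field {G T : Over (Spec (CommRingCat.of K))} [GrpObj G] [GrpObj T] [LocallyOfFiniteType G.hom]
    [QuasiCompact G.hom] {i : T ⟶ G} (hT : AGF.IsMaxTorus i) (hc : MultLift.Central i)
    {K' : Type u} [Field K'] [IsAlgClosed K'] (p : Spec (CommRingCat.of K') ⟶ Spec (CommRingCat.of K))
    {R : Over (Spec (CommRingCat.of K'))} [GrpObj R] (hR : Red.IsTorus R) (v : R ⟶ Red.bc p G) [IsMonHom v] :
    ∃ f : R ⟶ Red.bc p T, f ≫ (Over.pullback p).map i = v := by
  obtain ⟨C, _, c, hcm, hcc, hcs, hr⟩ := DenseSubLib.exists_smooth_subgroup (A := G) ⊤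
  haveI := hcm; haveI := hcc; haveI := hcs
  haveI : Mono c := Over.mono_of_mono_left c
  have hsurj : Set.range c.left = Set.univ := by
    refine Set.eq_univ_of_univ_subset ?_
    have h1 := AVAmpleLib.range_subset_of_points (𝟙 G) (c.left.isClosedEmbedding.isClosed_range) fun z => by
      rw [hr, Category.comp_id]
      exact subset_closure ⟨z, Subgroup.mem_top z, rfl⟩
    intro x _
    exact h1 ⟨x, rfl⟩
  haveI : QuasiCompact C.hom := by rw [← Over.w c]; infer_instance
  obtain ⟨hi, hm, hTt, hmax⟩ := hT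
  haveI := hi; haveI := hm
  haveI : Smooth T.hom := MaxTorConj.smooth_of_isTorus hTt
  haveI : AlgebraicGeometry.IsReduced T.left := AlgSpLib.isReduced_of_smooth T.hom
  obtain ⟨l, hl⟩ := AVAmpleLib.exists_lift_of_reduced c.left i.left (hsurj ▸ Set.subset_univ _)
  let t : T ⟶ C := Over.homMk l (by rw [← Over.w c, ← Category.assoc, hl, Over.w i])
  have htc : t ≫ c = i := Over.OverMorphism.ext hl
  haveI : IsMonHom (t ≫ c) := by rw [htc]; infer_instance
  haveI : IsMonHom t := DiagRep.isMonHom_of_comp_mono t c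
  haveI : Mono (t ≫ c) := by rw [htc]; infer_instance
  haveI : Mono t := mono_of_mono t c
  have ht : AGF.IsMaxTorus t := ⟨inferInstance, inferInstance, hTt, fun T' _ j _ _ f hT' hf =>
    hmax T' (j ≫ c) f hT' (by rw [← Category.assoc, hf, htc])⟩
  have htC : MultLift.Central t := fun X g x => by
    rw [← cancel_mono c, MonObj.mul_comp, MonObj.mul_comp, Category.assoc, htc]
    exact hc X (g ≫ c) x
  have htK := MaxTorConj.isMaxTorus_bc_field p ht
  haveI : Smooth (Red.bc p C).hom := MorphismProperty.pullback_snd (P := @Smooth) _ _ inferInstance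
  haveI : QuasiCompact (Red.bc p C).hom := MorphismProperty.pullback_snd (P := @QuasiCompact) _ _ inferInstance
  let cK : Red.bc p C ⟶ Red.bc p G := (Over.pullback p).map c
  haveI : IsMonHom cK := DiagRep.isMonHom_bc_map p c
  haveI : IsClosedImmersion cK.left := MorphismProperty.overPullbackMap (P := @IsClosedImmersion) p c hcc
  haveI : Mono cK := Over.mono_of_mono_left cK
  haveI : Surjective cK.left := MorphismProperty.overPullbackMap (P := @Surjective) p c
    ⟨fun x => (hsurj.symm ▸ Set.mem_univ x : x ∈ Set.range c.left)⟩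
  haveI : Smooth R.hom := MaxTorConj.smooth_of_isTorus hR
  haveI : AlgebraicGeometry.IsReduced R.left := AlgSpLib.isReduced_of_smooth R.hom
  obtain ⟨l', hl'⟩ := AVAmpleLib.exists_lift_of_reduced cK.left v.left
    (cK.left.surjective.range_eq.symm ▸ Set.subset_univ _)
  let v' : R ⟶ Red.bc p C := Over.homMk l' (by rw [← Over.w cK, ← Category.assoc, hl', Over.w v])
  have hv' : v' ≫ cK = v := Over.OverMorphism.ext hl'
  haveI : IsMonHom (v' ≫ cK) := by rw [hv']; infer_instance
  haveI : IsMonHom v' := DiagRep.isMonHom_of_comp_mono v' cK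
  obtain ⟨f, hf⟩ := exists_factor_smooth htK (MultLift.central_bc p htC) v' hR
  refine ⟨f, ?_⟩
  rw [← htc, Functor.map_comp, ← Category.assoc, hf]
  exact hv'

end Groth.Agent.CentMaxTor

end
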