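import Groth.Agent.CentMaxTorLib.Fac
import Groth.Agent.CentMaxTorLib.Field

/-!
A central maximal torus contains every torus after any base change.
-/

set_option autoImplicit false
set_option linter.style.haveILetI false
set_option backward.isDefEq.respectTransparency false
set_option maxHeartbeats 1000000
set_option synthInstance.maxHeartbeats 200000

noncomputable section

universe u

open CategoryTheory CategoryTheory.Limits MonoidalCategory CartesianMonoidalCategory AlgebraicGeometry
open scoped MonObj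

attribute [-instance] CategoryTheory.Hom.commGroup

namespace Groth.Agent.CentMaxTor

variable {S : Scheme.{u}}

/-- A factorization after base change gives an inclusion. -/
theorem le_of_hom {A B G : Over S} {T : Scheme.{u}} (κ : T ⟶ S) (a : A ⟶ G) (b : B ⟶ G)
    (v : Red.bc κ A ⟶ Red.bc κ B) (hv : v ≫ (Over.pullback κ).map b = (Over.pullback κ).map a) :
    MultEq.LE a b κ := by
  intro Y q hq h
  let adj := Over.mapPullbackAdj κ
  let Y' : Over T := Over.mk q
  let ε : (Over.map κ).obj Y' ⟶ Y := Over.homMk (𝟙 Y.left) (by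
    show 𝟙 Y.left ≫ Y.hom = q ≫ κ
    rw [Category.id_comp, hq])
  haveI : IsIso ((Over.forget S).map ε) := inferInstanceAs (IsIso (𝟙 Y.left))
  haveI : IsIso ε := isIso_of_reflects_iso ε (Over.forget S)
  let h' := (adj.homEquiv Y' B).symm (adj.homEquiv Y' A (ε ≫ h) ≫ v)
  refine ⟨inv ε ≫ h', ?_⟩
  rw [Category.assoc, IsIso.inv_comp_eq]
  refine (adj.homEquiv Y' G).injective ?_
  rw [← Category.assoc, adj.homEquiv_naturality_right, adj.homEquiv_naturality_right, Equiv.apply_symm_apply,
    Category.assoc]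
  exact congrArg (_ ≫ ·) hv

variable {G T : Over S} [GrpObj G] [GrpObj T] [LocallyOfFinitePresentation G.hom] [QuasiCompact G.hom] {i : T ⟶ G}

/-- Tori of a base change of a group with a central maximal torus lie in the base change of that torus. -/
theorem exists_factor_central (hT : Red.IsMaximalTorus i) (hc : MultLift.Central i) {P : Scheme.{u}} (g : P ⟶ S)
    {R : Over P} [GrpObj R] (v : R ⟶ Red.bc g G) [IsMonHom v] (hR : Red.IsTorus R) :
    ∃ f : R ⟶ Red.bc g T, f ≫ (Over.pullback g).map i = v := by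
  haveI := hT.1; haveI := hT.2.1
  have hTmt := DescHom.isMultTypeFT_bc (RedRank.isMultTypeFT_of_isTorus hT.2.2.1) g
  let ig : Red.bc g T ⟶ Red.bc g G := (Over.pullback g).map i
  haveI : IsMonHom ig := DiagRep.isMonHom_bc_map g i
  haveI : Mono ig := BorelLib.mono_bc g i
  haveI : LocallyOfFinitePresentation (Red.bc g G).hom :=
    inferInstanceAs (LocallyOfFinitePresentation (pullback.snd G.hom g))
  haveI := MultEq.lfp_of_isMultTypeFT hTmt
  refine exists_factor_of_fibres (i := v) (i' := ig) (RedRank.isMultTypeFT_of_isTorus hR) hTmt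
    (Or.inr (MultLift.central_bc g hc)) fun x => ?_
  let px := Red.geomPt x
  let t := Red.geomPt (g x)
  obtain ⟨l, hl⟩ := MaxTorConj.exists_geomPt_factor g x
  haveI : LocallyOfFinitePresentation (Red.bc t G).hom :=
    inferInstanceAs (LocallyOfFinitePresentation (pullback.snd G.hom t))
  haveI : QuasiCompact (Red.bc t G).hom := inferInstanceAs (QuasiCompact (pullback.snd G.hom t))
  haveI := DiagRep.isMonHom_bc_map t i
  haveI := BorelLib.mono_bc t i
  have hM : AGF.IsMaxTorus (G := Red.bc t G) ((Over.pullback t).map i) :=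
    ⟨inferInstance, inferInstance, RedRank.isTorus_bc hT.2.2.1 t, fun R' _ J _ _ f hR' hf => hT.2.2.2 (g x) R' J f hR' hf⟩
  let d := px ≫ g
  let cT₁ : Red.bc px (Red.bc g T) ≅ Red.bc d T := ActBC.bcCompIso px g T rfl
  let cT₂ : Red.bc l (Red.bc t T) ≅ Red.bc d T := ActBC.bcCompIso l t T hl
  let cG₁ : Red.bc px (Red.bc g G) ≅ Red.bc d G := ActBC.bcCompIso px g G rfl
  let cG₂ : Red.bc l (Red.bc t G) ≅ Red.bc d G := ActBC.bcCompIso l t G hl
  haveI : IsMonHom cG₁.hom := ActBC.bcCompIso_isMonHom _ _ _
  haveI : IsMonHom cG₂.hom := ActBC.bcCompIso_isMonHom _ _ _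
  haveI : IsMonHom cG₂.inv := inferInstance
  haveI : IsMonHom (M := Red.bc px R) (N := Red.bc px (Red.bc g G)) ((Over.pullback px).map v) :=
    DiagRep.isMonHom_bc_map px v
  let v' : Red.bc px R ⟶ Red.bc l (Red.bc t G) := (Over.pullback px).map v ≫ cG₁.hom ≫ cG₂.inv
  haveI : IsMonHom v' := by
    show IsMonHom ((Over.pullback px).map v ≫ cG₁.hom ≫ cG₂.inv)
    infer_instance
  obtain ⟨f, hf⟩ := exists_factor_field hM (MultLift.central_bc t hc) l (RedRank.isTorus_bc hR px) v'
  have hx : MultEq.LE v ig px := le_of_hom px v ig (f ≫ cT₂.hom ≫ cT₁.inv) (by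
    have e1 : (Over.pullback px).map ig ≫ cG₁.hom = cT₁.hom ≫ (Over.pullback d).map i :=
      ActBC.bcCompIso_hom_naturality (h := rfl) (φ := i)
    have e2 : (Over.pullback l).map ((Over.pullback t).map i) ≫ cG₂.hom = cT₂.hom ≫ (Over.pullback d).map i :=
      ActBC.bcCompIso_hom_naturality (h := hl) (φ := i)
    rw [← cancel_mono cG₁.hom, Category.assoc, Category.assoc, Category.assoc, e1, Iso.inv_hom_id_assoc, ← e2,
      reassoc_of% hf]
    show ((Over.pullback px).map v ≫ cG₁.hom ≫ cG₂.inv) ≫ cG₂.hom = _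
    simp)
  let K := AlgebraicClosure (P.residueField x)
  let q : Spec (CommRingCat.of K) ⟶ Spec (P.residueField x) :=
    Spec.map (CommRingCat.ofHom (algebraMap (P.residueField x) K))
  haveI : Surjective q := ⟨fun y => ⟨IsLocalRing.closedPoint K,
    @Subsingleton.elim _ (inferInstanceAs (Subsingleton (PrimeSpectrum (P.residueField x)))) _ _⟩⟩
  haveI : Flat q := by
    rw [HasRingHomProperty.Spec_iff (P := @Flat)]
    exact RingHom.flat_algebraMap_iff.2 inferInstance
  exact le_of_family (fun _ : PUnit.{u + 1} => q) (fun _ => inferInstance)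
    (fun y => ⟨PUnit.unit, q.surjective y⟩) fun _ => hx

end Groth.Agent.CentMaxTor

end
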