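import Groth.Agent.TorsTupleLib.Sigma
import Groth.Agent.SubDescLib.Main
import Groth.Agent.S5265

/-!
Subgroups over a base which is a disjoint union.
-/

set_option autoImplicit false
set_option linter.style.haveILetI false
set_option backward.isDefEq.respectTransparency false
set_option maxHeartbeats 1000000
set_option synthInstance.maxHeartbeats 200000

noncomputable section

universe u

open CategoryTheory CategoryTheory.Limits MonoidalCategory CartesianMonoidalCategory AlgebraicGeometry
open scoped MonObj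

attribute [-instance] CategoryTheory.Hom.commGroup

namespace Groth.Agent.CentMaxTor.Pieces

variable {κ : Type u} {P : κ → Scheme.{u}} {S : Scheme.{u}} (q : ∀ k, P k ⟶ S) [IsIso (Sigma.desc q)]

theorem isIso_desc_fst (Y : Over S) : IsIso (Sigma.desc fun k => pullback.fst Y.hom (q k)) :=
  (DescLib.isPullback_sigma q (fun k => pullback.fst Y.hom (q k)) (fun k => pullback.snd Y.hom (q k))
    fun k => IsPullback.of_hasPullback _ _).isIso_fst_of_isIso

/-- Morphisms agree if they do over each member. -/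
theorem hom_ext {Y Z : Over S} {f g : Y ⟶ Z}
    (h : ∀ k, (Over.pullback (q k)).map f = (Over.pullback (q k)).map g) : f = g := by
  haveI := isIso_desc_fst q Y
  refine Over.OverMorphism.ext ((cancel_epi (Sigma.desc fun k => pullback.fst Y.hom (q k))).1
    (Sigma.hom_ext _ _ fun k => ?_))
  rw [Sigma.ι_desc_assoc, Sigma.ι_desc_assoc]
  have h' := congrArg (fun φ => φ.left ≫ pullback.fst Z.hom (q k)) (h k)
  simp only [ActBC.pullback_map_left_fst] at h'
  exact h'

/-- Morphisms glue. -/
theorem exists_hom {Y U : Over S} (a : ∀ k, Red.bc (q k) Y ⟶ Red.bc (q k) U) :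
    ∃ h : Y ⟶ U, ∀ k, (Over.pullback (q k)).map h = a k := by
  haveI := isIso_desc_fst q Y
  let e := Sigma.desc fun k => pullback.fst Y.hom (q k)
  let hl : Y.left ⟶ U.left := inv e ≫ Sigma.desc fun k => (a k).left ≫ pullback.fst U.hom (q k)
  refine ⟨Over.homMk hl ?_, fun k => Over.OverMorphism.ext (pullback.hom_ext ?_ ?_)⟩
  · show (inv e ≫ _) ≫ U.hom = Y.hom
    rw [Category.assoc, IsIso.inv_comp_eq]
    refine Sigma.hom_ext _ _ fun k => ?_
    have ea : (a k).left ≫ pullback.snd U.hom (q k) = pullback.snd Y.hom (q k) := Over.w (a k)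
    rw [Sigma.ι_desc_assoc, Category.assoc, pullback.condition, reassoc_of% ea, Sigma.ι_desc_assoc, pullback.condition]
  · rw [ActBC.pullback_map_left_fst]
    show pullback.fst Y.hom _ ≫ inv e ≫ _ = _
    conv_lhs => rw [← Sigma.ι_desc (fun k => pullback.fst Y.hom (q k)) k, Category.assoc]
    simp [e]
  · exact (Over.w _).trans (Over.w _).symm

/-- Subobjects glue. -/
theorem exists_obj {G : Over S} (D : ∀ k, Over (P k)) (j : ∀ k, D k ⟶ Red.bc (q k) G) [∀ k, Mono (j k)] :
    ∃ (U : Over S) (u : U ⟶ G) (θ : ∀ k, Red.bc (q k) U ≅ D k), Mono u ∧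
      ∀ k, (θ k).hom ≫ j k = (Over.pullback (q k)).map u := by
  let π := Sigma.desc q
  let U : Over S := Over.mk (Limits.Sigma.map (fun k => (D k).hom) ≫ π)
  let u : U ⟶ G := Over.homMk (Sigma.desc fun k => (j k).left ≫ pullback.fst G.hom (q k)) (Sigma.hom_ext _ _ fun k => by
    have e : (j k).left ≫ pullback.snd G.hom (q k) = (D k).hom := Over.w (j k)
    show Sigma.ι (fun k => (D k).left) k ≫ _ ≫ G.hom =
      Sigma.ι (fun k => (D k).left) k ≫ Limits.Sigma.map (fun k => (D k).hom) ≫ π
    rw [Sigma.ι_desc_assoc, Sigma.ι_map_assoc, Sigma.ι_desc, Category.assoc, pullback.condition, reassoc_of% e])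
  have sq : ∀ k, IsPullback (Sigma.ι (fun k => (D k).left) k) (D k).hom U.hom (q k) := fun k =>
    (DescLib.isPullback_sigmaι_map (fun k => (D k).hom) k).flip.of_iso (Iso.refl _) (Iso.refl _) (Iso.refl _) (asIso π)
      (by simp) (by simp) (by show _ = 𝟙 _ ≫ Limits.Sigma.map _ ≫ π; simp) (by simp [π])
  let θ : ∀ k, Red.bc (q k) U ≅ D k := fun k =>
    (Over.isoMk (sq k).isoPullback (by exact (sq k).isoPullback_hom_snd)).symm
  have hθ : ∀ k, (θ k).hom ≫ j k = (Over.pullback (q k)).map u := fun k => by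
    refine Over.OverMorphism.ext (pullback.hom_ext ?_ ?_)
    · rw [Over.comp_left, ActBC.pullback_map_left_fst, Category.assoc]
      show (sq k).isoPullback.inv ≫ (j k).left ≫ pullback.fst G.hom (q k) = pullback.fst U.hom (q k) ≫ u.left
      rw [Iso.inv_comp_eq, ← Category.assoc (sq k).isoPullback.hom, (sq k).isoPullback_hom_fst]
      simp [u]
    · exact (Over.w ((θ k).hom ≫ j k)).trans (Over.w ((Over.pullback (q k)).map u)).symm
  refine ⟨U, u, θ, ⟨fun {Y} a b hab => hom_ext q fun k => ?_⟩, hθ⟩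
  rw [← cancel_mono (θ k).hom, ← cancel_mono (j k), Category.assoc, Category.assoc, hθ, ← Functor.map_comp,
    ← Functor.map_comp, hab]

omit [IsIso (Sigma.desc q)] in
theorem map_one_hom {Y G : Over S} [GrpObj G] (k : κ) :
    (Over.pullback (q k)).map (1 : Y ⟶ G) = (1 : (Over.pullback (q k)).obj Y ⟶ (Over.pullback (q k)).obj G) := by
  have h : (Over.pullback (q k)).map ((1 : Y ⟶ G) * 1) =
      (Over.pullback (q k)).map (1 : Y ⟶ G) * (Over.pullback (q k)).map (1 : Y ⟶ G) := Functor.map_mul _ _ _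
  exact left_eq_mul.1 ((congrArg (Over.pullback (q k)).map (one_mul (1 : Y ⟶ G))).symm.trans h)

/-- Subgroups glue. -/
theorem exists_subgroup {G : Over S} [GrpObj G] (D : ∀ k, Over (P k)) [∀ k, GrpObj (D k)]
    (j : ∀ k, D k ⟶ Red.bc (q k) G) [∀ k, Mono (j k)] [∀ k, IsMonHom (j k)] :
    ∃ (U : Over S) (_ : GrpObj U) (u : U ⟶ G) (θ : ∀ k, Red.bc (q k) U ≅ D k), IsMonHom u ∧ Mono u ∧
      (∀ k, IsMonHom (θ k).hom) ∧ ∀ k, (θ k).hom ≫ j k = (Over.pullback (q k)).map u := by
  obtain ⟨U, u, θ, hu, hθ⟩ := exists_obj q D j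
  haveI := hu
  have hback : ∀ {Y : Over S} (y : Y ⟶ G),
      (∀ k, ∃ a : Red.bc (q k) Y ⟶ D k, a ≫ j k = (Over.pullback (q k)).map y) → ∃ h : Y ⟶ U, h ≫ u = y := by
    intro Y y hy
    choose a ha using hy
    obtain ⟨h, hh⟩ := exists_hom q fun k => a k ≫ (θ k).inv
    refine ⟨h, hom_ext q fun k => ?_⟩
    rw [Functor.map_comp, hh, ← hθ, Category.assoc, Iso.inv_hom_id_assoc, ha]
  have hpt : ∀ k {Y : Over S} (a : Y ⟶ U),
      ((Over.pullback (q k)).map a ≫ (θ k).hom) ≫ j k = (Over.pullback (q k)).map (a ≫ u) :=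
    fun k {Y} a => by rw [Category.assoc, hθ, Functor.map_comp]
  obtain ⟨I, hmon⟩ := SubDesc.exists_grpObj_of_mono u
    (hback ((fst U U ≫ u) * (snd U U ≫ u)) fun k =>
      ⟨((Over.pullback (q k)).map (fst U U) ≫ (θ k).hom) * ((Over.pullback (q k)).map (snd U U) ≫ (θ k).hom), by
        rw [MonObj.mul_comp, hpt, hpt]
        exact (Functor.map_mul _ _ _).symm⟩)
    (hback (1 : 𝟙_ _ ⟶ G) fun k => ⟨1, by rw [MonObj.one_comp, map_one_hom q k]⟩)
    (hback u⁻¹ fun k => ⟨((θ k).hom)⁻¹, by
      rw [GrpObj.inv_comp, hθ]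
      refine inv_eq_of_mul_eq_one_left ?_
      exact (Functor.map_mul _ u⁻¹ u).symm.trans ((congrArg _ (inv_mul_cancel u)).trans (map_one_hom q k))⟩)
  letI := I
  haveI := hmon
  refine ⟨U, I, u, θ, hmon, hu, fun k => ?_, hθ⟩
  haveI : IsMonHom (M := Red.bc (q k) U) (N := Red.bc (q k) G) ((Over.pullback (q k)).map u) :=
    DiagRep.isMonHom_bc_map _ u
  haveI : IsMonHom ((θ k).hom ≫ j k) := by rw [hθ]; infer_instance
  exact DiagRep.isMonHom_of_comp_mono (θ k).hom (j k)

/-- Centralizers glue. -/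
theorem isCentralizerOf {G Z T : Over S} [GrpObj G] [GrpObj Z] [GrpObj T] (r : T ⟶ G) (z : Z ⟶ G) [IsMonHom z] [Mono z]
    (h : ∀ k, Red.IsCentralizerOf (G := Red.bc (q k) G) (Z := Red.bc (q k) Z) (H := Red.bc (q k) T)
      ((Over.pullback (q k)).map r) ((Over.pullback (q k)).map z)) :
    Red.IsCentralizerOf r z := by
  refine ⟨inferInstance, inferInstance, fun X g => ⟨?_, fun hcomm => ?_⟩⟩
  · rintro ⟨a, rfl⟩ X' x t
    refine hom_ext q fun k => ?_
    rw [Functor.map_mul, Functor.map_mul, Functor.map_comp _ x, Functor.map_comp _ t]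
    have e := ((h k).2.2 ((Over.pullback (q k)).obj X) ((Over.pullback (q k)).map (a ≫ z))).1
      ⟨(Over.pullback (q k)).map a, ((Over.pullback (q k)).map_comp a z).symm⟩
    exact e ((Over.pullback (q k)).obj X') ((Over.pullback (q k)).map x) ((Over.pullback (q k)).map t)
  · have hk : ∀ k, ∃ a, a ≫ (Over.pullback (q k)).map z = (Over.pullback (q k)).map g := fun k =>
      ((h k).2.2 _ _).2 fun X₁ x₁ t₁ => by
        let adj := Over.mapPullbackAdj (q k)
        let x := (adj.homEquiv X₁ X).symm x₁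
        let t := (adj.homEquiv X₁ T).symm t₁
        have h1 : x₁ ≫ (Over.pullback (q k)).map g = adj.homEquiv X₁ G (x ≫ g) := by
          rw [adj.homEquiv_naturality_right, Equiv.apply_symm_apply]
        have h2 : t₁ ≫ (Over.pullback (q k)).map r = adj.homEquiv X₁ G (t ≫ r) := by
          rw [adj.homEquiv_naturality_right, Equiv.apply_symm_apply]
        show (x₁ ≫ (Over.pullback (q k)).map g) * (t₁ ≫ (Over.pullback (q k)).map r) =
          (t₁ ≫ (Over.pullback (q k)).map r) * (x₁ ≫ (Over.pullback (q k)).map g)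
        rw [h1, h2]
        exact (AlgGrp.Action.homEquiv_mul (q k) _ _).symm.trans
          ((congrArg (adj.homEquiv X₁ G) (hcomm _ x t)).trans (AlgGrp.Action.homEquiv_mul (q k) _ _))
    choose a ha using hk
    obtain ⟨w, hw⟩ := exists_hom q a
    exact ⟨w, hom_ext q fun k => by rw [Functor.map_comp, hw, ha]⟩

/-- Tori glue over a noetherian base. -/
theorem isTorus [IsLocallyNoetherian S] [Finite κ] [∀ k, IsOpenImmersion (q k)] (hcov : ∀ s : S, ∃ k, s ∈ Set.range (q k))
    {U : Over S} [GrpObj U] (h : ∀ k, Red.IsTorus (Red.bc (q k) U)) : Red.IsTorus U := by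
  haveI := isIso_desc_fst q U
  let e := Sigma.desc fun k => pullback.fst U.hom (q k)
  have hk : ∀ k, Sigma.ι (fun k => pullback U.hom (q k)) k ≫ e ≫ U.hom = (Red.bc (q k) U).hom ≫ q k := fun k => by
    rw [Sigma.ι_desc_assoc, pullback.condition]
    rfl
  have hmt := fun k => RedRank.isMultTypeFT_of_isTorus (h k)
  haveI : Flat U.hom := by
    haveI : Flat (e ≫ U.hom) := IsZariskiLocalAtSource.of_openCover (sigmaOpenCover _) fun k => by
      show Flat (Sigma.ι _ k ≫ e ≫ U.hom)
      haveI := EqNhd.flat_of_isMultTypeFT (hmt k)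
      rw [hk]
      infer_instance
    rw [show U.hom = inv e ≫ e ≫ U.hom by simp]
    infer_instance
  haveI : LocallyOfFiniteType U.hom := by
    haveI : LocallyOfFiniteType (e ≫ U.hom) := IsZariskiLocalAtSource.of_openCover (sigmaOpenCover _) fun k => by
      show LocallyOfFiniteType (Sigma.ι _ k ≫ e ≫ U.hom)
      haveI := MultEq.lfp_of_isMultTypeFT (hmt k)
      rw [hk]
      infer_instance
    rw [show U.hom = inv e ≫ e ≫ U.hom by simp]
    infer_instance
  haveI : IsLocallyNoetherian U.left := LocallyOfFiniteType.isLocallyNoetherian U.hom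
  haveI : LocallyOfFinitePresentation U.hom := LocallyOfFinitePresentation.iff_locallyOfFiniteType.2 inferInstance
  haveI : QuasiCompact U.hom := by
    refine quasiCompact_iff_forall_isAffineOpen.2 fun V hV => ?_
    have e1 : (U.hom ⁻¹' (V : Set S)) = ⋃ k, pullback.fst U.hom (q k) ''
        ((Red.bc (q k) U).hom ⁻¹' (q k ⁻¹' (V : Set S))) := by
      ext x
      constructor
      · intro hx
        obtain ⟨k, y, hy⟩ := hcov (U.hom x)
        obtain ⟨z, hz₁, hz₂⟩ := Scheme.Pullback.exists_preimage_pullback (f := U.hom) (g := q k) x y hy.symm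
        refine Set.mem_iUnion.2 ⟨k, z, ?_, hz₁⟩
        show q k (pullback.snd U.hom (q k) z) ∈ (V : Set S)
        rw [hz₂, hy]
        exact hx
      · intro hx
        obtain ⟨k, z, hz, rfl⟩ := Set.mem_iUnion.1 hx
        show U.hom (pullback.fst U.hom (q k) z) ∈ (V : Set S)
        rw [← Scheme.Hom.comp_apply, pullback.condition]
        exact hz
    show IsCompact (U.hom ⁻¹' (V : Set S))
    rw [e1]
    refine isCompact_iUnion fun k => ?_
    haveI : IsAffineHom (Red.bc (q k) U).hom := MultEq.isAffineHom_of_isMultTypeFT (hmt k)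
    have hVk : IsCompact (q k ⁻¹' (V : Set S)) := by
      rw [(q k).isOpenEmbedding.isInducing.isCompact_iff, Set.image_preimage_eq_inter_range]
      haveI : TopologicalSpace.NoetherianSpace ↥(V : Set S) := by
        haveI : IsAffine (V : Scheme.{u}) := hV
        haveI : IsNoetherian (V : Scheme.{u}) := {}
        exact inferInstanceAs (TopologicalSpace.NoetherianSpace ↥(V : Scheme.{u}))
      have := TopologicalSpace.NoetherianSpace.isCompact
        ((Subtype.val : ↥(V : Set S) → S) ⁻¹' Set.range (q k))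
      have h2 := this.image continuous_subtype_val
      rwa [Subtype.image_preimage_coe, Set.inter_comm, Set.inter_comm] at h2
    exact (((Red.bc (q k) U).hom).isCompact_preimage (U := q k ⁻¹ᵁ V) hVk).image (pullback.fst U.hom (q k)).continuous
  haveI : QuasiSeparated U.hom := inferInstance
  refine (Groth.Agent.S5265.result U).2 fun s => ?_
  obtain ⟨k, y, hy⟩ := hcov s
  have hr : Set.range (S.fromSpecResidueField s) ⊆ Set.range (q k) := by
    rintro _ ⟨t, rfl⟩
    exact ⟨y, hy.trans (Scheme.fromSpecResidueField_apply s t).symm⟩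
  let d := IsOpenImmersion.lift (q k) (S.fromSpecResidueField s) hr
  let b : Red.bc d (Red.bc (q k) U) ≅ Red.bc (S.fromSpecResidueField s) U :=
    ActBC.bcCompIso d (q k) U (IsOpenImmersion.lift_fac _ _ _)
  haveI : IsMonHom b.hom := ActBC.bcCompIso_isMonHom _ _ _
  haveI : IsMonHom b.symm.hom := inferInstanceAs (IsMonHom b.inv)
  exact RedRank.isTorus_of_iso b.symm (RedRank.isTorus_bc (h k) d)

end Groth.Agent.CentMaxTor.Pieces

end
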